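import Cfsg.Agent.H13.Monomial
import Cfsg.Agent.H14.DegreeIndex
import Cfsg.Agent.H15.Extension
import Cfsg.Agent.H21.TwoDegrees
import Cfsg.Agent.H22.ValueMod

/-!
Character tools for the theorem on groups with three character degrees.
-/

set_option autoImplicit false
set_option linter.style.haveILetI false
set_option linter.unusedSectionVars false

open Cfsg H13
open scoped ComplexConjugate commutatorElement

namespace H4.ThreeDeg

universe u

variable {G : Type u} [Group G] [Finite G]

/-- The degree ratio to a constituent of a normal subgroup divides the index. -/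
theorem ratio_of_constituent [Fintype G] (N : Subgroup G) [N.Normal] [Fintype N]
    (χ : IrrCharacter G) (θ : IrrCharacter N)
    (hne : classInner (fun n : N => (χ : G → ℂ) n) θ ≠ 0) :
    ∃ e : ℕ, H12.degree (χ : G → ℂ) = e * H12.degree (θ : N → ℂ) ∧ e ∣ N.index := by
  classical
  set T := inertia N (θ : N → ℂ) with hT
  haveI := Fintype.ofFinite T
  have hNT : N ≤ T := le_inertia N (H12.irr_isClassFunction θ)
  obtain ⟨ψ, hψ, hψN, hind⟩ := clifford_correspondence_exists N θ.2 hT hNT χ.2 hne
  obtain ⟨e, he⟩ := H12.IsCharacter.classInner_nat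
    (isCharacter_resTo hNT (H12.isCharacter_of_isIrrCharacter hψ)) (H12.isCharacter_irr θ)
  have hres := resTo_eq_of_invariant N hNT θ.2 hT.le hψ hψN
  rw [he] at hres
  have he0 : e ≠ 0 := fun h => hψN (by rw [he, h, Nat.cast_zero])
  haveI : Fintype (N.subgroupOf T) := Fintype.ofFinite _
  let ι := Subgroup.subgroupOfEquivOfLe hNT
  have hdvd := H15.ramification_dvd_index (G := T) (N := N.subgroupOf T) hψ
    (θ := (θ : N → ℂ) ∘ ι) (isIrrCharacter_comp_equiv ι θ.2) (fun t => funext fun n =>
      congrFun ((mem_inertia N).1 t.2) (ι n)) e he0 (funext fun n => congrFun hres (ι n))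
  have h1 : (χ : G → ℂ) 1 = ((T.index * e : ℕ) : ℂ) * (θ : N → ℂ) 1 := by
    have h2 := congrFun hres 1
    rw [← hind, indFun_apply_one, show ψ 1 = (resTo hNT ψ) 1 from rfl, h2]
    simp [mul_assoc]
  refine ⟨T.index * e, ?_, ?_⟩
  · rw [H12.irr_apply_one, H12.irr_apply_one] at h1
    exact_mod_cast h1
  · rw [← Subgroup.relIndex_mul_index hNT, mul_comm (N.relIndex T)]
    exact Nat.mul_dvd_mul_left _ hdvd

/-- A character of `G` over a given one of a normal subgroup, with the degree ratio dividing the
index. -/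
theorem exists_over (N : Subgroup G) [N.Normal] (θ : IrrCharacter N) :
    ∃ (χ : IrrCharacter G) (e : ℕ), H12.degree (χ : G → ℂ) = e * H12.degree (θ : N → ℂ) ∧
      e ∣ N.index := by
  classical
  haveI := Fintype.ofFinite G
  haveI := Fintype.ofFinite N
  obtain ⟨χ, hχ⟩ : ∃ χ : IrrCharacter G, classInner (indFun N (θ : N → ℂ)) χ ≠ 0 := by
    by_contra h0
    simp only [not_exists, not_not] at h0
    have h := congrFun (H12.eq_zero_of_classInner_irr_eq_zero (indFun_isClassFunction N _) h0) 1
    rw [indFun_apply_one, Pi.zero_apply, mul_eq_zero] at h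
    rcases h with h | h
    · exact Subgroup.index_ne_zero_of_finite (Nat.cast_eq_zero.1 h)
    · exact H12.irr_apply_one_ne_zero θ h
  exact ⟨χ, ratio_of_constituent N χ θ (fun h0 => hχ (by
    rw [classInner_indFun_left N _ (H12.irr_isClassFunction χ), ← H12.conj_classInner, h0,
      map_zero]))⟩

/-- A value at an element of prime power order is nonzero if the degree is prime to it. -/
theorem ne_zero_of_prime_power {q i : ℕ} (hq : q.Prime) (χ : IrrCharacter G) {g : G}
    (hg : orderOf g = q ^ i) (hd : ¬ q ∣ H12.degree (χ : G → ℂ)) : (χ : G → ℂ) g ≠ 0 := by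
  haveI := Fintype.ofFinite G
  intro h0
  obtain ⟨M, hM⟩ := H22.exists_isPModular q hq
  haveI : M.IsPrime := H20.isPrime_of_modular hM
  have h := H22.memIdeal_apply_sub_one hM (H12.isCharacter_irr χ) hg
  rw [h0, zero_sub, H12.irr_apply_one] at h
  apply hd
  rw [← H20.natCast_memIdeal_iff hM]
  simpa using H20.memIdeal_mul
    (H20.memRing_of_isIntegral (isIntegral_one.neg : IsIntegral ℤ (-1 : ℂ))) h

/-- A linear character is trivial on the derived subgroup. -/
theorem linear_kills (χ : IrrCharacter G) (h : H12.degree (χ : G → ℂ) = 1) {g : G}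
    (hg : g ∈ commutator G) : (χ : G → ℂ) g = (χ : G → ℂ) 1 := by
  have h1 : (χ : G → ℂ) 1 = 1 := by rw [H12.irr_apply_one, h, Nat.cast_one]
  obtain ⟨f, hf⟩ := H12.exists_monoidHom_of_apply_one_eq_one (H12.isCharacter_irr χ) h1
  rw [h1, ← hf]
  simp [MonoidHom.mem_ker.1 (Abelianization.commutator_subset_ker f hg)]

/-- A character trivial on the derived subgroup is linear. -/
theorem degree_one_of_kills (χ : IrrCharacter G)
    (h : ∀ g ∈ commutator G, (χ : G → ℂ) g = (χ : G → ℂ) 1) : H12.degree (χ : G → ℂ) = 1 := by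
  haveI := Fintype.ofFinite G
  obtain ⟨ψ, hψ⟩ := exists_irr_of_le_kernel (commutator G) χ.2 h
  have h1 := degree_one_of_commutative (G := G ⧸ commutator G) (fun a b => by
    induction a using QuotientGroup.induction_on with
    | H x =>
      induction b using QuotientGroup.induction_on with
      | H y =>
        rw [← QuotientGroup.mk_mul, ← QuotientGroup.mk_mul, QuotientGroup.eq,
          show (x * y)⁻¹ * (y * x) = ⁅y⁻¹, x⁻¹⁆ by group, commutator_def]
        exact Subgroup.commutator_mem_commutator (Subgroup.mem_top _) (Subgroup.mem_top _)) ψ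
  have h2 := hψ 1
  rw [QuotientGroup.mk_one, h1, H12.irr_apply_one] at h2
  exact_mod_cast h2

theorem eq_one_of_kills {g : G} (h : ∀ χ : IrrCharacter G, (χ : G → ℂ) g = (χ : G → ℂ) 1) :
    g = 1 := by
  haveI := Fintype.ofFinite G
  exact isConj_one_left.1 ((H12.isConj_iff_irr g 1).2 h)

/-- One step of Taketa's argument. -/
theorem kill_step [Fintype G]
    (hM : ∀ χ : G → ℂ, IsIrrCharacter G χ →
      ∃ (H : Subgroup G) (lam : H →* ℂˣ), χ = indFun H (fun h => (lam h : ℂ)))
    (L : Subgroup G) [L.Normal] (d : ℕ)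
    (h : ∀ φ : IrrCharacter G, H12.degree (φ : G → ℂ) < d →
      ∀ g ∈ L, (φ : G → ℂ) g = (φ : G → ℂ) 1)
    (χ : IrrCharacter G) (hd : H12.degree (χ : G → ℂ) = d) {g : G} (hg : g ∈ ⁅L, L⁆) :
    (χ : G → ℂ) g = (χ : G → ℂ) 1 := by
  classical
  haveI hfin : ∀ L : Subgroup G, Fintype L := fun L => Fintype.ofFinite _
  obtain ⟨H, lam, hχ⟩ := hM χ χ.2
  have hdeg : (χ : G → ℂ) 1 = (H.index : ℂ) := by
    rw [hχ, indFun_apply_one, map_one, Units.val_one, mul_one]
  have hdH : d = H.index := by
    have h1 := H12.irr_apply_one χ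
    rw [hd, hdeg] at h1
    exact_mod_cast h1.symm
  have hle : L ≤ H := by
    intro y hy
    let π := indFun H (fun _ => (1 : ℂ))
    have hπ : IsCharacter G π := isCharacter_indFun H H12.isCharacter_one
    have hπ1 : π 1 = (H.index : ℂ) := by
      show indFun H (fun _ => (1 : ℂ)) 1 = _
      rw [indFun_apply_one, mul_one]
    have hone : classInner π (H12.oneIrr G : G → ℂ) ≠ 0 := by
      rw [classInner_indFun_left H _ (H12.irr_isClassFunction _)]
      have := H12.classInner_irr_self (H12.oneIrr H)
      exact this.symm ▸ one_ne_zero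
    have hsub := isCharacter_sub_irr hπ (H12.oneIrr G).2 hone
    obtain ⟨m, hm⟩ := H12.IsCharacter.exists_mult hsub
    have hfix : π y = π 1 := by
      have hy' : ∀ φ : IrrCharacter G,
          (m φ : ℂ) * (φ : G → ℂ) y = (m φ : ℂ) * (φ : G → ℂ) 1 := by
        intro φ
        rcases Nat.eq_zero_or_pos (m φ) with h0 | h0
        · simp [h0]
        congr 1
        have hsum : (∑ ψ : IrrCharacter G, m ψ * H12.degree (ψ : G → ℂ)) + 1 = H.index := by
          have h1 := congrFun hm 1
          rw [Finset.sum_apply, Pi.sub_apply, hπ1, H12.oneIrr_apply, sub_eq_iff_eq_add] at h1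
          simp only [Pi.smul_apply, smul_eq_mul, H12.irr_apply_one] at h1
          exact_mod_cast h1.symm
        have hlt : H12.degree (φ : G → ℂ) < H.index := by
          have h2 : H12.degree (φ : G → ℂ) ≤ ∑ ψ : IrrCharacter G, m ψ * H12.degree (ψ : G → ℂ) :=
            le_trans (Nat.le_mul_of_pos_left _ h0)
              (Finset.single_le_sum (f := fun ψ => m ψ * H12.degree (ψ : G → ℂ))
                (fun _ _ => Nat.zero_le _) (Finset.mem_univ φ))
          omega
        exact h φ (by omega) y hy
      have h1 := congrFun hm y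
      have h2 := congrFun hm 1
      simp only [Pi.sub_apply, Finset.sum_apply, Pi.smul_apply, smul_eq_mul,
        H12.oneIrr_apply] at h1 h2
      rw [Finset.sum_congr rfl (fun φ _ => hy' φ), ← h2] at h1
      exact sub_left_inj.1 h1
    rw [hπ1] at hfix
    rw [show π y = _ from H14.indFun_one_eq_fixed H y, Nat.cast_inj, Subgroup.index] at hfix
    haveI := Fintype.ofFinite (G ⧸ H)
    rw [Nat.card_eq_fintype_card, Nat.card_eq_fintype_card, Fintype.card_subtype,
      ← Finset.card_univ, Finset.card_filter_eq_iff] at hfix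
    have h3 : (y : G) • ((1 : G) : G ⧸ H) = ((1 : G) : G ⧸ H) :=
      hfix ((1 : G) : G ⧸ H) (Finset.mem_univ _)
    rw [MulAction.Quotient.smul_coe, smul_eq_mul, mul_one, QuotientGroup.eq, mul_one] at h3
    simpa using H.inv_mem h3
  have hker : ∀ x : G, extendByZero H (fun h => (lam h : ℂ)) (x⁻¹ * g * x) = 1 := by
    intro x
    have hx : x⁻¹ * g * x ∈ ⁅L, L⁆ := by
      simpa using Subgroup.Normal.conj_mem inferInstance g hg x⁻¹
    have hx' : x⁻¹ * g * x ∈ Subgroup.map H.subtype ⁅(⊤ : Subgroup H), (⊤ : Subgroup H)⁆ := by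
      rw [Subgroup.map_commutator, ← MonoidHom.range_eq_map, Subgroup.range_subtype]
      exact Subgroup.commutator_mono hle hle hx
    obtain ⟨z, hz, hzx⟩ := hx'
    rw [← hzx, Subgroup.coe_subtype, extendByZero_coe]
    have : lam z = 1 := Abelianization.commutator_subset_ker lam hz
    rw [this, Units.val_one]
  have hone : ∀ x : G, extendByZero H (fun h => (lam h : ℂ)) (x⁻¹ * 1 * x) = 1 := fun x => by
    rw [mul_one, inv_mul_cancel, show (1 : G) = ((1 : H) : G) from rfl, extendByZero_coe,
      map_one, Units.val_one]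
  rw [hχ]
  simp only [indFun, hker, hone]

/-- At most two degrees: the second derived subgroup is trivial. -/
theorem derived_two {m : ℕ}
    (hcd : ∀ χ : IrrCharacter G, H12.degree (χ : G → ℂ) = 1 ∨ H12.degree (χ : G → ℂ) = m) :
    derivedSeries G 2 = ⊥ := by
  rw [derivedSeries_succ, derivedSeries_one, Subgroup.commutator_eq_bot_iff_le_centralizer]
  intro a ha b hb
  exact H21.commutator_abelian_of_two_degrees hcd b hb a ha

/-- Derived terms of `G` inside those of a subgroup containing one of them. -/
theorem derived_le_map (R : Subgroup G) (i : ℕ) (h : derivedSeries G i ≤ R) :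
    ∀ n : ℕ, derivedSeries G (i + n) ≤ (derivedSeries R n).map R.subtype := by
  intro n
  induction n with
  | zero => rw [derivedSeries_zero, ← MonoidHom.range_eq_map, Subgroup.range_subtype]; exact h
  | succ n ih =>
    rw [← Nat.add_assoc, derivedSeries_succ, derivedSeries_succ, Subgroup.map_commutator]
    exact Subgroup.commutator_mono ih ih

theorem derived_eq_bot_of_sub (R : Subgroup G) (i : ℕ) (h : derivedSeries G i ≤ R) (n : ℕ)
    (hR : derivedSeries R n = ⊥) : derivedSeries G (i + n) = ⊥ := by
  have h1 := derived_le_map R i h n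
  rwa [hR, Subgroup.map_bot, le_bot_iff] at h1

end H4.ThreeDeg
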