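import Cfsg.Agent.H4.ThreeDegrees.Tools
import Cfsg.Agent.H12.InvConstituents
import Cfsg.Agent.S0168

/-!
Three degrees, two of them coprime, with all nonlinear characters faithful: impossible.
-/

set_option autoImplicit false
set_option linter.style.haveILetI false
set_option linter.unusedSectionVars false

open Cfsg H13
open scoped ComplexConjugate

namespace H4.ThreeDeg

universe u

variable {G : Type u} [Group G] [Fintype G]

theorem classInner_prod_move (χ φ ψ : G → ℂ) :
    classInner (χ * (fun g => conj (φ g))) ψ = classInner χ (φ * ψ) := by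
  rw [classInner, classInner]
  congr 1
  refine Finset.sum_congr rfl fun g _ => ?_
  simp only [Pi.mul_apply, map_mul]
  ring

theorem degree_sum {f : G → ℂ} {m : IrrCharacter G → ℕ}
    (hm : f = ∑ φ : IrrCharacter G, (m φ : ℂ) • (φ : G → ℂ)) {n : ℕ} (hn : f 1 = n) :
    n = ∑ φ : IrrCharacter G, m φ * H12.degree (φ : G → ℂ) := by
  have h1 := congrFun hm 1
  rw [hn, Finset.sum_apply] at h1
  simp only [Pi.smul_apply, smul_eq_mul, H12.irr_apply_one] at h1
  exact_mod_cast h1

theorem mult_eq {f : G → ℂ} {m : IrrCharacter G → ℕ}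
    (hm : f = ∑ φ : IrrCharacter G, (m φ : ℂ) • (φ : G → ℂ)) (ψ : IrrCharacter G) :
    classInner f ψ = (m ψ : ℂ) := by
  rw [hm]; exact H12.classInner_sum_smul_irr _ ψ

/-- A product of two irreducible characters of the smaller degree with no linear constituent has no
constituent of the larger degree. -/
theorem no_large {a b : ℕ} (hab : a < b) (hco : a.Coprime b) (ha : 1 < a)
    (hcd : ∀ χ : IrrCharacter G, H12.degree (χ : G → ℂ) = 1 ∨ H12.degree (χ : G → ℂ) = a ∨
      H12.degree (χ : G → ℂ) = b)
    {f : G → ℂ} (hf : IsCharacter G f) (hf1 : f 1 = ((a * a : ℕ) : ℂ))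
    (hlin : ∀ φ : IrrCharacter G, H12.degree (φ : G → ℂ) = 1 → classInner f φ = 0)
    (ψ : IrrCharacter G) (hψ : H12.degree (ψ : G → ℂ) = b) : classInner f ψ = 0 := by
  classical
  obtain ⟨m, hm⟩ := H12.IsCharacter.exists_mult hf
  have hsum := degree_sum hm hf1
  let y := ∑ φ ∈ Finset.univ.filter (fun φ : IrrCharacter G => H12.degree (φ : G → ℂ) = b), m φ
  let x := ∑ φ ∈ Finset.univ.filter (fun φ : IrrCharacter G => H12.degree (φ : G → ℂ) = a), m φ
  have hm0 : ∀ φ : IrrCharacter G, H12.degree (φ : G → ℂ) = 1 → m φ = 0 := fun φ hφ => by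
    have := hlin φ hφ
    rw [mult_eq hm] at this
    exact_mod_cast this
  have hsplit : a * a = x * a + y * b := by
    rw [hsum, Finset.sum_mul, Finset.sum_mul, Finset.sum_filter, Finset.sum_filter,
      ← Finset.sum_add_distrib]
    refine Finset.sum_congr rfl fun φ _ => ?_
    rcases hcd φ with h | h | h
    · simp [hm0 φ h]
    · simp [h, hab.ne]
    · simp [h, hab.ne']
  rw [mult_eq hm]
  norm_cast
  by_contra h0
  have hy : 0 < y := lt_of_lt_of_le (Nat.pos_of_ne_zero h0)
    (Finset.single_le_sum (f := m) (fun _ _ => Nat.zero_le _) (by simp [hψ]))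
  have hd : a ∣ y * b := ⟨a - x, by rw [Nat.mul_sub]; rw [Nat.mul_comm a x]; omega⟩
  have hle : a ≤ y := Nat.le_of_dvd hy (hco.dvd_of_dvd_mul_right hd)
  nlinarith [Nat.mul_le_mul_right b hle]

/-- Three degrees, two of them coprime, all nonlinear characters faithful: the derived subgroup
is trivial. -/
theorem coprime_faithful {a b : ℕ} (hab : a < b) (hco : a.Coprime b) (ha : 1 < a)
    (hcd : ∀ χ : IrrCharacter G, H12.degree (χ : G → ℂ) = 1 ∨ H12.degree (χ : G → ℂ) = a ∨
      H12.degree (χ : G → ℂ) = b)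
    (hfaith : ∀ χ : IrrCharacter G, H12.degree (χ : G → ℂ) ≠ 1 →
      ∀ g : G, (χ : G → ℂ) g = (χ : G → ℂ) 1 → g = 1)
    (hexa : ∃ χ : IrrCharacter G, H12.degree (χ : G → ℂ) = a)
    (hexb : ∃ χ : IrrCharacter G, H12.degree (χ : G → ℂ) = b) : False := by
  classical
  haveI hfin : ∀ L : Subgroup G, Fintype L := fun L => Fintype.ofFinite _
  -- a constituent of degree `b` in some product `χ χ̄`
  have step : ∀ χ₁ χ₂ : IrrCharacter G, H12.degree (χ₁ : G → ℂ) < b →
      H12.degree (χ₂ : G → ℂ) < b → ∀ ψ : IrrCharacter G, H12.degree (ψ : G → ℂ) = b →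
      classInner ((χ₁ : G → ℂ) * (χ₂ : G → ℂ)) ψ ≠ 0 →
      ∃ χ φ : IrrCharacter G, H12.degree (χ : G → ℂ) = a ∧ H12.degree (φ : G → ℂ) = b ∧
        classInner ((χ : G → ℂ) * fun g => conj ((χ : G → ℂ) g)) φ ≠ 0 := by
    intro χ₁ χ₂ h₁ h₂ ψ hψ hne
    have hlin1 : ∀ (ξ η : IrrCharacter G), H12.degree (ξ : G → ℂ) = 1 →
        H12.degree (η : G → ℂ) < b → classInner ((ξ : G → ℂ) * (η : G → ℂ)) ψ = 0 := by
      intro ξ η hξ hη
      have h1 : (ξ : G → ℂ) 1 = 1 := by rw [H12.irr_apply_one, hξ, Nat.cast_one]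
      obtain ⟨l, hl⟩ := H12.exists_monoidHom_of_apply_one_eq_one (H12.isCharacter_irr ξ) h1
      rw [show (ξ : G → ℂ) * η = (H12.InvConst.mulHom l η : G → ℂ) by rw [← hl]; rfl]
      refine H12.classInner_irr_ne fun e => ?_
      have h2 := congrFun (congrArg Subtype.val e) 1
      rw [H12.InvConst.mulHom_apply, map_one, Units.val_one, one_mul, H12.irr_apply_one, H12.irr_apply_one,
        hψ, Nat.cast_inj] at h2
      omega
    have ha₁ : H12.degree (χ₁ : G → ℂ) = a := by
      rcases hcd χ₁ with h | h | h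
      · exact absurd (hlin1 χ₁ χ₂ h h₂) hne
      · exact h
      · omega
    have ha₂ : H12.degree (χ₂ : G → ℂ) = a := by
      rcases hcd χ₂ with h | h | h
      · exact absurd (by rw [mul_comm]; exact hlin1 χ₂ χ₁ h h₁) hne
      · exact h
      · omega
    obtain ⟨ξ, hξ, hξne⟩ : ∃ ξ : IrrCharacter G, H12.degree (ξ : G → ℂ) = 1 ∧
        classInner ((χ₁ : G → ℂ) * (χ₂ : G → ℂ)) ξ ≠ 0 := by
      by_contra hno
      simp only [not_exists, not_and, not_not] at hno
      exact hne (no_large hab hco ha hcd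
        (H12.IsCharacter.mul (H12.isCharacter_irr χ₁) (H12.isCharacter_irr χ₂))
        (by rw [Pi.mul_apply, H12.irr_apply_one, H12.irr_apply_one, ha₁, ha₂, Nat.cast_mul])
        hno ψ hψ)
    have h1 : (ξ : G → ℂ) 1 = 1 := by rw [H12.irr_apply_one, hξ, Nat.cast_one]
    obtain ⟨l, hl⟩ := H12.exists_monoidHom_of_apply_one_eq_one (H12.isCharacter_irr ξ) h1
    have hll : ∀ g, (l g : ℂ) * conj (l g : ℂ) = 1 := fun g => by
      have hp : (l g : ℂ) ^ orderOf g = 1 := by
        rw [← Units.val_pow_eq_pow_val, ← map_pow, pow_orderOf_eq_one, map_one, Units.val_one]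
      rw [H12.conj_eq_inv_of_pow_eq_one (orderOf_pos g).ne' hp, mul_inv_cancel₀ (l g).ne_zero]
    have heq : χ₂ = H12.InvConst.mulHom l (H12.conjIrr χ₁) := by
      by_contra hne2
      apply hξne
      have h2 : classInner ((χ₁ : G → ℂ) * (χ₂ : G → ℂ)) ξ =
          classInner (χ₂ : G → ℂ) (H12.InvConst.mulHom l (H12.conjIrr χ₁)) := by
        rw [classInner, classInner]
        congr 1
        refine Finset.sum_congr rfl fun g _ => ?_
        rw [Pi.mul_apply, ← congrFun hl g, H12.InvConst.mulHom_apply, H12.conjIrr_apply, map_mul,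
          Complex.conj_conj]
        ring
      rw [h2]
      exact H12.classInner_irr_ne hne2
    refine ⟨χ₁, H12.InvConst.mulHom l⁻¹ ψ, ha₁, ?_, ?_⟩
    · have h2 := H12.irr_apply_one (H12.InvConst.mulHom l⁻¹ ψ)
      rw [H12.InvConst.mulHom_apply, map_one, Units.val_one, one_mul, H12.irr_apply_one, hψ,
        Nat.cast_inj] at h2
      exact h2.symm
    · intro h0
      apply hne
      rw [← h0, heq, classInner, classInner]
      congr 1
      refine Finset.sum_congr rfl fun g _ => ?_
      have h2 := hll g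
      simp only [Pi.mul_apply, H12.InvConst.mulHom_apply, H12.conjIrr_apply, map_mul, MonoidHom.inv_apply,
        Units.val_inv_eq_inv_val, map_inv₀]
      rw [show conj (l g : ℂ) = (l g : ℂ)⁻¹ from eq_inv_of_mul_eq_one_right h2, inv_inv]
      ring
  obtain ⟨χ, ψ, hχ, hψ, hne⟩ : ∃ χ φ : IrrCharacter G, H12.degree (χ : G → ℂ) = a ∧
      H12.degree (φ : G → ℂ) = b ∧
        classInner ((χ : G → ℂ) * fun g => conj ((χ : G → ℂ) g)) φ ≠ 0 := by
    by_contra hno
    obtain ⟨χ, hχ⟩ := hexa
    obtain ⟨ψ, hψ⟩ := hexb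
    obtain ⟨n, ρ, hρ, hρχ⟩ := χ.2
    have hinj : Function.Injective ρ := by
      intro x y hxy
      have h1 : (χ : G → ℂ) (x⁻¹ * y) = (χ : G → ℂ) 1 := by
        rw [← hρχ]
        unfold Representation.character
        rw [map_mul, ← hxy, ← map_mul, inv_mul_cancel]
      exact inv_mul_eq_one.1 (hfaith χ (by omega) _ h1)
    obtain ⟨i, -, hi⟩ := Cfsg.Agent.S0168.result ρ hinj (ψ : G → ℂ) ψ.2
    have key : ∀ i : ℕ, ∀ φ : IrrCharacter G,
        classInner (fun g => (χ : G → ℂ) g ^ i) φ ≠ 0 → H12.degree (φ : G → ℂ) < b := by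
      intro i
      induction i with
      | zero =>
        intro φ hφ
        by_contra hb
        apply hφ
        simp only [pow_zero]
        refine H12.classInner_irr_ne (χ := H12.oneIrr G) (ψ := φ) fun e => hb ?_
        subst e
        have h2 := H12.irr_apply_one (H12.oneIrr G)
        rw [H12.oneIrr_apply] at h2
        have h3 : H12.degree (H12.oneIrr G : G → ℂ) = 1 := by exact_mod_cast h2.symm
        omega
      | succ i ih =>
        intro φ hφ
        by_contra hb
        obtain ⟨m, hm⟩ := H12.IsCharacter.exists_mult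
          (H12.IsCharacter.pow (H12.isCharacter_irr χ) i)
        apply hφ
        rw [show (fun g => (χ : G → ℂ) g ^ (i + 1)) =
            ∑ η : IrrCharacter G, (m η : ℂ) • ((η : G → ℂ) * (χ : G → ℂ)) by
          funext g
          have h1 := congrFun hm g
          simp only [Finset.sum_apply, Pi.smul_apply, Pi.pow_apply, smul_eq_mul] at h1
          simp only [Finset.sum_apply, Pi.smul_apply, smul_eq_mul, Pi.mul_apply, ← mul_assoc]
          rw [← Finset.sum_mul, ← h1, pow_succ], H12.classInner_sum_left]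
        refine Finset.sum_eq_zero fun η _ => ?_
        rw [H12.classInner_smul_left]
        rcases Nat.eq_zero_or_pos (m η) with h0 | h0
        · rw [h0, Nat.cast_zero, zero_mul]
        by_contra hne
        have hηb : H12.degree (η : G → ℂ) < b := ih η (by
          show classInner ((χ : G → ℂ) ^ i) (η : G → ℂ) ≠ 0
          rw [mult_eq hm]; exact_mod_cast h0.ne')
        have hφb : H12.degree (φ : G → ℂ) = b := by
          rcases hcd φ with h | h | h <;> omega
        exact hno (step η χ hηb (by omega) φ hφb (mul_ne_zero_iff.1 hne).2)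
    have := key i ψ (by rw [← hρχ]; exact hi)
    omega
  -- every constituent of `χ ψ̄` is a linear multiple of `χ`
  set f : G → ℂ := (χ : G → ℂ) * fun g => conj ((ψ : G → ℂ) g) with hf
  have hfc : IsCharacter G f :=
    H12.IsCharacter.mul (H12.isCharacter_irr χ) (H12.IsCharacter.star (H12.isCharacter_irr ψ))
  obtain ⟨m, hm⟩ := H12.IsCharacter.exists_mult hfc
  have hf1 : f 1 = ((a * b : ℕ) : ℂ) := by
    rw [hf, Pi.mul_apply, H12.irr_apply_one, H12.irr_apply_one, hχ, hψ, Complex.conj_natCast,
      Nat.cast_mul]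
  have hsum := degree_sum hm hf1
  have hm1 : ∀ φ : IrrCharacter G, H12.degree (φ : G → ℂ) = 1 → m φ = 0 := by
    intro φ hφ
    have h1 : (φ : G → ℂ) 1 = 1 := by rw [H12.irr_apply_one, hφ, Nat.cast_one]
    obtain ⟨l, hl⟩ := H12.exists_monoidHom_of_apply_one_eq_one (H12.isCharacter_irr φ) h1
    have h2 := mult_eq hm φ
    rw [hf, classInner_prod_move, show (ψ : G → ℂ) * φ = (H12.InvConst.mulHom l ψ : G → ℂ) by
      rw [mul_comm, ← hl]; rfl, H12.classInner_irr_ne] at h2
    · exact_mod_cast h2.symm
    · intro e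
      have h3 := congrFun (congrArg Subtype.val e) 1
      rw [H12.InvConst.mulHom_apply, map_one, Units.val_one, one_mul, H12.irr_apply_one, H12.irr_apply_one,
        hχ, hψ, Nat.cast_inj] at h3
      omega
  have hχm : m χ ≠ 0 := by
    intro h0
    apply hne
    have h2 := mult_eq hm χ
    rw [h0, Nat.cast_zero] at h2
    have h3 : classInner ((χ : G → ℂ) * fun g => conj ((χ : G → ℂ) g)) ψ = classInner f χ := by
      rw [hf, classInner_prod_move, classInner_prod_move, mul_comm]
    rw [h3, h2]
  let x := ∑ φ ∈ Finset.univ.filter (fun φ : IrrCharacter G => H12.degree (φ : G → ℂ) = a), m φ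
  let y := ∑ φ ∈ Finset.univ.filter (fun φ : IrrCharacter G => H12.degree (φ : G → ℂ) = b), m φ
  have hsplit : a * b = x * a + y * b := by
    rw [hsum, Finset.sum_mul, Finset.sum_mul, Finset.sum_filter, Finset.sum_filter,
      ← Finset.sum_add_distrib]
    refine Finset.sum_congr rfl fun φ _ => ?_
    rcases hcd φ with h | h | h
    · simp [hm1 φ h]
    · simp [h, hab.ne]
    · simp [h, hab.ne']
  have hy : y = 0 := by
    have hx : 0 < x := lt_of_lt_of_le (Nat.pos_of_ne_zero hχm)
      (Finset.single_le_sum (f := m) (fun _ _ => Nat.zero_le _) (by simp [hχ]))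
    by_contra h0
    have hd : a ∣ y * b := ⟨b - x, by rw [Nat.mul_sub, Nat.mul_comm a x]; omega⟩
    have hle : a ≤ y := Nat.le_of_dvd (Nat.pos_of_ne_zero h0) (hco.dvd_of_dvd_mul_right hd)
    nlinarith [Nat.mul_le_mul_right b hle, Nat.mul_pos hx (show 0 < a by omega)]
  have hconst : ∀ g ∈ commutator G, f g = (b : ℂ) * (χ : G → ℂ) g := by
    intro g hg
    have hterm : ∀ φ : IrrCharacter G, (m φ : ℂ) * (φ : G → ℂ) g =
        (((m φ * H12.degree (φ : G → ℂ) : ℕ) : ℂ) / (a : ℂ)) * (χ : G → ℂ) g := by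
      intro φ
      rcases Nat.eq_zero_or_pos (m φ) with h0 | h0
      · simp [h0]
      have hφa : H12.degree (φ : G → ℂ) = a := by
        rcases hcd φ with h | h | h
        · have := hm1 φ h; omega
        · exact h
        · have : m φ ≤ y := Finset.single_le_sum (f := m) (fun _ _ => Nat.zero_le _) (by simp [h])
          omega
      obtain ⟨ξ, hξ, hξne⟩ : ∃ ξ : IrrCharacter G, H12.degree (ξ : G → ℂ) = 1 ∧
          classInner ((χ : G → ℂ) * fun g => conj ((φ : G → ℂ) g)) ξ ≠ 0 := by
        by_contra hno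
        simp only [not_exists, not_and, not_not] at hno
        have h2 := no_large hab hco ha hcd
          (H12.IsCharacter.mul (H12.isCharacter_irr χ) (H12.IsCharacter.star (H12.isCharacter_irr φ)))
          (by rw [Pi.mul_apply, H12.irr_apply_one, H12.irr_apply_one, hχ, hφa,
            Complex.conj_natCast, Nat.cast_mul]) hno ψ hψ
        have h3 : classInner ((χ : G → ℂ) * fun g => conj ((φ : G → ℂ) g)) ψ = classInner f φ := by
          rw [hf, classInner_prod_move, classInner_prod_move, mul_comm]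
        rw [h3, mult_eq hm] at h2
        have : m φ = 0 := by exact_mod_cast h2
        omega
      have h1 : (ξ : G → ℂ) 1 = 1 := by rw [H12.irr_apply_one, hξ, Nat.cast_one]
      obtain ⟨l, hl⟩ := H12.exists_monoidHom_of_apply_one_eq_one (H12.isCharacter_irr ξ) h1
      have heq : χ = H12.InvConst.mulHom l φ := by
        by_contra hne2
        apply hξne
        rw [classInner_prod_move, show (φ : G → ℂ) * ξ = (H12.InvConst.mulHom l φ : G → ℂ) by
          rw [mul_comm, ← hl]; rfl]
        exact H12.classInner_irr_ne hne2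
      have hlg : (l g : ℂ) = 1 := by
        rw [MonoidHom.mem_ker.1 (Abelianization.commutator_subset_ker l hg), Units.val_one]
      rw [congrFun (congrArg Subtype.val heq) g, H12.InvConst.mulHom_apply, hlg, one_mul, hφa, Nat.cast_mul,
        mul_div_assoc, div_self (by exact_mod_cast (show a ≠ 0 by omega)), mul_one]
    have h1 := congrFun hm g
    simp only [Finset.sum_apply, Pi.smul_apply, smul_eq_mul] at h1
    rw [h1, Finset.sum_congr rfl (fun φ _ => hterm φ), ← Finset.sum_mul, ← Finset.sum_div,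
      ← Nat.cast_sum, ← hsum, Nat.cast_mul, mul_div_cancel_left₀ _
        (show (a : ℂ) ≠ 0 by exact_mod_cast (show a ≠ 0 by omega))]
  -- so `χ` vanishes on the nontrivial elements of the derived subgroup
  have hvan : ∀ g ∈ commutator G, g ≠ 1 → (χ : G → ℂ) g = 0 := by
    intro g hg hg1
    by_contra h0
    have h1 := hconst g hg
    rw [hf, Pi.mul_apply, mul_comm] at h1
    have h2 := congrArg conj (mul_right_cancel₀ h0 h1)
    rw [Complex.conj_conj, Complex.conj_natCast] at h2
    exact hg1 (hfaith ψ (by omega) g (by rw [h2, H12.irr_apply_one, hψ]))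
  have hres : classInner (fun n : commutator G => (χ : G → ℂ) n)
      (H12.oneIrr (commutator G) : commutator G → ℂ) ≠ 0 := by
    rw [classInner, Finset.sum_eq_single (1 : commutator G)]
    · refine mul_ne_zero (inv_ne_zero (Nat.cast_ne_zero.2 Nat.card_pos.ne')) ?_
      rw [H12.oneIrr_apply, map_one, mul_one]
      exact H12.irr_apply_one_ne_zero χ
    · intro n _ hn
      rw [hvan n n.2 (fun e => hn (Subtype.ext e)), zero_mul]
    · intro h; exact absurd (Finset.mem_univ _) h
  have hkill : ∀ g ∈ commutator G, (χ : G → ℂ) g = (χ : G → ℂ) 1 := by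
    intro g hg
    have hcl := clifford_res (commutator G) χ.2 (H12.oneIrr (commutator G)).2 hres
      {H12.oneIrr (commutator G)} (fun φ => by
        rw [Finset.mem_singleton]
        constructor
        · rintro rfl; exact ⟨1, rfl⟩
        · rintro ⟨x, hx⟩; exact Subtype.ext (hx.symm.trans rfl))
    rw [Finset.sum_singleton] at hcl
    have h1 := congrFun hcl ⟨g, hg⟩
    have h2 := congrFun hcl 1
    exact h1.trans h2.symm
  have := degree_one_of_kills χ hkill
  omega

end H4.ThreeDeg
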