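import Cfsg.Agent.H4.ThreeDegrees.Tools
import Cfsg.Agent.H5.PResidual
import Cfsg.Agent.H12.InvConstituents

/-!
Minimal nonabelian solvable quotients and the degree lemma for Frobenius quotients.
-/

set_option autoImplicit false
set_option linter.style.haveILetI false
set_option linter.unusedSectionVars false

open Cfsg H13
open scoped commutatorElement

namespace H4.ThreeDeg

universe u

variable {G : Type u} [Group G] [Finite G]

/-- The centre of a minimal nonabelian quotient: the derived subgroup is not central when every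
`q`-residual contains it. -/
theorem derived_not_central {q : ℕ} (hq : q.Prime) (hD : commutator G ≠ ⊥)
    (hpow : ∀ d ∈ commutator G, d ^ q = 1) (hres : commutator G ≤ pResidual q G) :
    ¬ commutator G ≤ Subgroup.center G := by
  intro hc
  haveI := Fact.mk hq
  -- elements of order prime to `q` are central
  have hcent : ∀ x : G, (orderOf x).Coprime q → x ∈ Subgroup.center G := by
    intro x hx
    rw [Subgroup.mem_center_iff]
    intro h
    let c : Subgroup.zpowers x →* G := MonoidHom.mk' (fun y => ⁅(y : G), h⁆) (fun y z => by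
      have hz : ⁅(z : G), h⁆ ∈ Subgroup.center G := hc (by
        rw [commutator_def]
        exact Subgroup.commutator_mem_commutator (Subgroup.mem_top _) (Subgroup.mem_top _))
      have h1 := Subgroup.mem_center_iff.1 hz
      calc ⁅((y * z : Subgroup.zpowers x) : G), h⁆
          = ((y : G) * ⁅(z : G), h⁆) * (h * (y : G)⁻¹ * h⁻¹) := by
            simp [commutatorElement_def, mul_assoc]
        _ = (⁅(z : G), h⁆ * (y : G)) * (h * (y : G)⁻¹ * h⁻¹) := by rw [h1]
        _ = ⁅(z : G), h⁆ * ⁅(y : G), h⁆ := by rw [commutatorElement_def (y : G) h]; group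
        _ = ⁅(y : G), h⁆ * ⁅(z : G), h⁆ := (h1 _).symm)
    have hm : ⁅x, h⁆ ∈ commutator G := by
      rw [commutator_def]
      exact Subgroup.commutator_mem_commutator (Subgroup.mem_top _) (Subgroup.mem_top _)
    have h2 : orderOf ⁅x, h⁆ ∣ orderOf x := by
      have := orderOf_map_dvd c ⟨x, Subgroup.mem_zpowers x⟩
      rwa [Subgroup.orderOf_mk] at this
    have h3 : orderOf ⁅x, h⁆ ∣ q := orderOf_dvd_of_pow_eq_one (hpow _ hm)
    have h4 : ⁅x, h⁆ = 1 := orderOf_eq_one_iff.1 (Nat.eq_one_of_dvd_coprimes hx h2 h3)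
    exact (commutatorElement_eq_one_iff_mul_comm.1 h4).symm
  let S : Subgroup G :=
    { carrier := {x | x ∈ Subgroup.center G ∧ (orderOf x).Coprime q}
      one_mem' := ⟨one_mem _, by simp⟩
      mul_mem' := fun {a b} ha hb => ⟨mul_mem ha.1 hb.1,
        Nat.Coprime.coprime_dvd_left
          (Commute.orderOf_mul_dvd_mul_orderOf (Subgroup.mem_center_iff.1 hb.1 a))
          (Nat.Coprime.mul_left ha.2 hb.2)⟩
      inv_mem' := fun {a} ha => ⟨inv_mem ha.1, by rw [orderOf_inv]; exact ha.2⟩ }
  have hle : pResidual q G ≤ S := by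
    unfold pResidual
    rw [Subgroup.closure_le]
    exact fun x hx => ⟨hcent x hx, hx⟩
  apply hD
  rw [Subgroup.eq_bot_iff_forall]
  intro d hd
  exact orderOf_eq_one_iff.1 (Nat.eq_one_of_dvd_coprimes (hle (hres hd)).2 dvd_rfl
    (orderOf_dvd_of_pow_eq_one (hpow d hd)))

/-- Minimal nonabelian solvable groups whose derived subgroup lies in all residuals are Frobenius
with elementary abelian kernel the derived subgroup. -/
theorem min_nonabelian (hD : commutator G ≠ ⊥)
    (huniq : ∀ X : Subgroup G, X.Normal → X ≠ ⊥ → commutator G ≤ X)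
    (hab : ∀ a ∈ commutator G, ∀ b ∈ commutator G, a * b = b * a)
    (hres : ∀ q : ℕ, q.Prime → commutator G ≤ pResidual q G) :
    ∃ q : ℕ, q.Prime ∧ (∀ d ∈ commutator G, d ^ q = 1) ∧
      (∀ g : G, g ∉ commutator G → ∀ d ∈ commutator G, g * d = d * g → d = 1) ∧
      ¬ q ∣ (commutator G).index := by
  classical
  set D := commutator G with hDdef
  haveI hDn : D.Normal := inferInstance
  obtain ⟨q, hq, hqd⟩ := Nat.exists_prime_and_dvd
    (fun h => hD (Subgroup.eq_bot_of_card_eq D h) : Nat.card D ≠ 1)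
  haveI := Fact.mk hq
  have hpow : ∀ d ∈ D, d ^ q = 1 := by
    let X : Subgroup G :=
      { carrier := {d | d ∈ D ∧ d ^ q = 1}
        one_mem' := ⟨one_mem _, one_pow _⟩
        mul_mem' := fun {a b} ha hb => ⟨mul_mem ha.1 hb.1, by
          rw [(show Commute a b from hab a ha.1 b hb.1).mul_pow, ha.2, hb.2, one_mul]⟩
        inv_mem' := fun {a} ha => ⟨inv_mem ha.1, by rw [inv_pow, ha.2, inv_one]⟩ }
    have hXn : X.Normal := ⟨fun d hd g => ⟨hDn.conj_mem d hd.1 g, by
      rw [conj_pow, hd.2, mul_one, mul_inv_cancel]⟩⟩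
    have hX : X ≠ ⊥ := by
      obtain ⟨d, hd⟩ := exists_prime_orderOf_dvd_card' (G := D) q hqd
      intro h
      have h1 : (d : G) ∈ X := ⟨d.2, by
        rw [← Subgroup.coe_pow, ← hd, pow_orderOf_eq_one, Subgroup.coe_one]⟩
      rw [h, Subgroup.mem_bot] at h1
      rw [show d = 1 from Subtype.ext h1, orderOf_one] at hd
      exact hq.one_lt.ne hd
    exact fun d hd => (huniq X hXn hX hd).2
  have hnc := derived_not_central hq hD hpow (hres q hq)
  -- fixed points of one element form a normal subgroup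
  have hfix : ∀ (S : Set G), (∀ s ∈ S, ∀ d ∈ D, s * d = d * s) → ∀ g : G, ∀ h : G, ∀ c ∈ S,
      (∀ x y : G, x ∈ S → y * x * y⁻¹ ∈ S) → g * c = c * g →
      g * (h * c * h⁻¹) = (h * c * h⁻¹) * g := by
    intro S hS g h c hc hconj hgc
    have hm : g⁻¹ * (h * g * h⁻¹) ∈ D := by
      rw [show g⁻¹ * (h * g * h⁻¹) = ⁅g⁻¹, h⁆ by simp [commutatorElement_def, mul_assoc],
        hDdef, commutator_def]
      exact Subgroup.commutator_mem_commutator (Subgroup.mem_top _) (Subgroup.mem_top _)
    have h1 := hS _ (hconj c h hc) _ hm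
    have h2 : (h * g * h⁻¹) * (h * c * h⁻¹) = (h * c * h⁻¹) * (h * g * h⁻¹) := by
      calc _ = h * (g * c) * h⁻¹ := by group
        _ = _ := by rw [hgc]; group
    calc g * (h * c * h⁻¹)
        = (h * g * h⁻¹) * ((g⁻¹ * (h * g * h⁻¹))⁻¹ * (h * c * h⁻¹)) := by group
      _ = (h * g * h⁻¹) * ((h * c * h⁻¹) * (g⁻¹ * (h * g * h⁻¹))⁻¹) := by
          rw [((show Commute (h * c * h⁻¹) (g⁻¹ * (h * g * h⁻¹)) from h1).inv_right).eq]
      _ = (h * c * h⁻¹) * g := by rw [← mul_assoc, h2]; group
  have hDfpf : ∀ g : G, (∃ d ∈ D, g * d ≠ d * g) → ∀ d ∈ D, g * d = d * g → d = 1 := by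
    intro g hg d hd hgd
    by_contra hd1
    let X : Subgroup G := D ⊓ Subgroup.centralizer ({g} : Set G)
    have hXn : X.Normal := ⟨fun c hc h => ⟨hDn.conj_mem c hc.1 h,
      Subgroup.mem_centralizer_singleton_iff.2 (hfix (D : Set G) (fun s hs e he => hab s hs e he) g h c
        hc.1 (fun x y hx => hDn.conj_mem x hx y)
        (Subgroup.mem_centralizer_singleton_iff.1 hc.2).symm).symm⟩⟩
    have hX : X ≠ ⊥ := fun h => hd1 (by
      have : d ∈ X := ⟨hd, Subgroup.mem_centralizer_singleton_iff.2 hgd.symm⟩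
      rwa [h, Subgroup.mem_bot] at this)
    obtain ⟨e, he, hne⟩ := hg
    exact hne (Subgroup.mem_centralizer_singleton_iff.1 (huniq X hXn hX he).2).symm
  set C := Subgroup.centralizer (D : Set G) with hC
  have hDC : D ≤ C := fun d hd => Subgroup.mem_centralizer_iff.2 fun e he => hab e he d hd
  have hCD : C = D := by
    obtain ⟨g, e, he, hne⟩ : ∃ g : G, ∃ e ∈ D, g * e ≠ e * g := by
      by_contra h
      simp only [not_exists, not_and, not_not] at h
      exact hnc fun d hd => Subgroup.mem_center_iff.2 fun g => h g d hd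
    have hg := hDfpf g ⟨e, he, hne⟩
    have hcD : ∀ c ∈ C, ∀ d ∈ D, c * d = d * c := fun c hc d hd =>
      (Subgroup.mem_centralizer_iff.1 hc d hd).symm
    have hcm : ∀ c : G, ⁅g, c⁆ ∈ D := fun c => by
      rw [hDdef, commutator_def]
      exact Subgroup.commutator_mem_commutator (Subgroup.mem_top _) (Subgroup.mem_top _)
    let δ : C →* D := MonoidHom.mk' (fun c => ⟨⁅g, (c : G)⁆, hcm c⟩) (fun c c' => by
      apply Subtype.ext
      show ⁅g, ((c : G) * c')⁆ = ⁅g, (c : G)⁆ * ⁅g, (c' : G)⁆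
      rw [show ⁅g, ((c : G) * c')⁆ = ⁅g, (c : G)⁆ * ((c : G) * ⁅g, (c' : G)⁆ * (c : G)⁻¹) by
        simp [commutatorElement_def, mul_assoc], hcD c c.2 _ (hcm c'), mul_inv_cancel_right])
    have hδ : Function.Injective δ := by
      rw [← MonoidHom.ker_eq_bot_iff, Subgroup.eq_bot_iff_forall]
      intro c hc
      let X : Subgroup G := C ⊓ Subgroup.centralizer ({g} : Set G)
      have hCn : C.Normal := Subgroup.normal_centralizer
      have hXn : X.Normal := ⟨fun z hz h => ⟨hCn.conj_mem z hz.1 h,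
        Subgroup.mem_centralizer_singleton_iff.2 (hfix (C : Set G) hcD g h z hz.1
          (fun x y hx => hCn.conj_mem x hx y)
          (Subgroup.mem_centralizer_singleton_iff.1 hz.2).symm).symm⟩⟩
      have hX : X = ⊥ := by
        by_contra hX
        exact hne (Subgroup.mem_centralizer_singleton_iff.1 (huniq X hXn hX he).2).symm
      apply Subtype.ext
      have h1 : ⁅g, (c : G)⁆ = 1 := congrArg Subtype.val (MonoidHom.mem_ker.1 hc)
      have : (c : G) ∈ X := ⟨c.2, Subgroup.mem_centralizer_singleton_iff.2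
        (commutatorElement_eq_one_iff_mul_comm.1 h1).symm⟩
      rwa [hX, Subgroup.mem_bot] at this
    exact (Subgroup.eq_of_le_of_card_ge hDC (Nat.card_le_card_of_injective δ hδ)).symm
  have hfpf : ∀ g : G, g ∉ D → ∀ d ∈ D, g * d = d * g → d = 1 := by
    intro g hg
    refine hDfpf g ?_
    by_contra h
    simp only [not_exists, not_and, not_not] at h
    exact hg (hCD ▸ Subgroup.mem_centralizer_iff.2 fun d hd => (h d hd).symm)
  refine ⟨q, hq, hpow, hfpf, fun hidx => ?_⟩
  obtain ⟨x, hx⟩ := exists_prime_orderOf_dvd_card' (G := G ⧸ D) q hidx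
  obtain ⟨g, rfl⟩ := QuotientGroup.mk_surjective x
  have hgD : g ∉ D := fun h => by
    rw [(QuotientGroup.eq_one_iff g).2 h, orderOf_one] at hx
    exact hq.one_lt.ne hx
  have hgq : g ^ q ∈ D := by
    rw [← QuotientGroup.eq_one_iff, QuotientGroup.mk_pow, ← hx, pow_orderOf_eq_one]
  have hP : IsPGroup q (Subgroup.zpowers g) := by
    refine IsPGroup.iff_card.2 ?_
    rw [Nat.card_zpowers]
    obtain ⟨k, -, hk⟩ := (Nat.dvd_prime_pow hq).1 (orderOf_dvd_of_pow_eq_one
      (show g ^ (q ^ 2) = 1 by rw [pow_two, pow_mul]; exact hpow _ hgq))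
    exact ⟨k, hk⟩
  letI : MulAction (Subgroup.zpowers g) D :=
    MulAction.compHom D ((MulAut.conjNormal (H := D)).comp (Subgroup.zpowers g).subtype)
  obtain ⟨d, hd, hd1⟩ := IsPGroup.exists_fixed_point_of_prime_dvd_card_of_fixed_point hP D hqd
    (a := 1) (fun y => map_one (MulAut.conjNormal (y : G)))
  apply hd1
  symm
  apply Subtype.ext
  refine hfpf g hgD d d.2 ?_
  have h1 := congrArg Subtype.val (hd ⟨g, Subgroup.mem_zpowers g⟩)
  have h2 : g * d * g⁻¹ = d := by
    rw [← MulAut.conjNormal_apply]; exact h1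
  calc g * d = (g * d * g⁻¹) * g := by group
    _ = d * g := by rw [h2]

/-- Isaacs 12.4: over a Frobenius quotient, a character of the kernel of degree prime to `q`
has a twist inducing irreducibly. -/
theorem exists_free_degree (N K : Subgroup G) [N.Normal] [K.Normal] (hKN : K ≤ N) (hne : K ≠ N)
    {q : ℕ} (hq : q.Prime) (hpow : ∀ n ∈ N, n ^ q ∈ K)
    (hcomm : ∀ a ∈ N, ∀ b ∈ N, ⁅a, b⁆ ∈ K)
    (hfpf : ∀ g : G, g ∉ N → ∀ n ∈ N, ⁅g, n⁆ ∈ K → n ∈ K)
    (ψ : IrrCharacter N) (hψ : ¬ q ∣ H12.degree (ψ : N → ℂ)) :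
    ∃ θ : IrrCharacter G, H12.degree (θ : G → ℂ) = N.index * H12.degree (ψ : N → ℂ) := by
  classical
  haveI := Fintype.ofFinite G
  haveI hfin : ∀ L : Subgroup G, Fintype L := fun L => Fintype.ofFinite _
  let Λ := {l : N →* ℂˣ // ∀ n : N, (n : G) ∈ K → l n = 1}
  haveI : Finite (N →* ℂˣ) := Finite.of_injective _ (H12.linIrr_injective (G := N))
  -- the characters of `N/K`
  have hcard : Nat.card Λ = Nat.card (N ⧸ K.subgroupOf N) := by
    rw [← Subgroup.index]
    exact H12.InvConst.card_linTriv (G := N) (K.subgroupOf N) (fun a b => by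
      rw [Subgroup.mem_subgroupOf]
      simpa [commutatorElement_def] using hcomm a a.2 b b.2)
  -- a twist fixing `ψ` is trivial
  have hrigid : ∀ μ : N →* ℂˣ, (∀ n : N, (n : G) ∈ K → μ n = 1) →
      (∀ n : N, (μ n : ℂ) * (ψ : N → ℂ) n = (ψ : N → ℂ) n) → μ = 1 := by
    intro μ hμK hμ
    refine MonoidHom.ext fun n => ?_
    rw [MonoidHom.one_apply]
    have hnq : μ n ^ q = 1 := by rw [← map_pow]; exact hμK _ (hpow n n.2)
    set s := (orderOf n).factorization q
    set m := orderOf n / q ^ s with hm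
    have hms : q ^ s * m = orderOf n := Nat.mul_div_cancel' (Nat.ordProj_dvd _ _)
    have hqm : q.Coprime m := Nat.coprime_ordCompl hq (orderOf_pos n).ne'
    have ho : ∃ i, orderOf (n ^ m) = q ^ i := by
      obtain ⟨i, -, hi⟩ := (Nat.dvd_prime_pow hq).1 (orderOf_dvd_of_pow_eq_one
        (show (n ^ m) ^ (q ^ s) = 1 by rw [← pow_mul, mul_comm, hms, pow_orderOf_eq_one]))
      exact ⟨i, hi⟩
    obtain ⟨i, hi⟩ := ho
    have h0 := ne_zero_of_prime_power hq ψ hi hψ
    have h1 : μ (n ^ m) = 1 := Units.ext (by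
      have := hμ (n ^ m)
      rw [Units.val_one]
      exact mul_eq_right₀ h0 |>.1 this)
    rw [map_pow] at h1
    exact orderOf_eq_one_iff.1 (Nat.eq_one_of_dvd_coprimes hqm (orderOf_dvd_of_pow_eq_one hnq)
      (orderOf_dvd_of_pow_eq_one h1))
  -- the twists
  let tw : G → N → N := fun g n => ⟨g * n * g⁻¹, Subgroup.Normal.conj_mem inferInstance _ n.2 g⟩
  have htwl : ∀ (g : G) (l : N →* ℂˣ), ∃ l' : N →* ℂˣ, ∀ n, l' n = l (tw g n) := fun g l =>
    ⟨l.comp (MulAut.conjNormal g : N ≃* N).toMonoidHom, fun n =>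
      congrArg l (Subtype.ext (MulAut.conjNormal_apply g n))⟩
  have hfree : ∀ g : G, g ∉ N → ∀ l : Λ, (∀ n : N, l.1 (tw g n) = l.1 n) → l.1 = 1 := by
    intro g hg l hl
    let δ : N ⧸ K.subgroupOf N → N ⧸ K.subgroupOf N :=
      Quotient.lift (fun n : N => ((tw g n * n⁻¹ : N) : N ⧸ K.subgroupOf N)) (fun a b hab => by
        replace hab : (a : N ⧸ K.subgroupOf N) = b := Quotient.sound hab
        have hk := QuotientGroup.eq.1 hab
        have hk' : (tw g a)⁻¹ * tw g b ∈ K.subgroupOf N := by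
          rw [Subgroup.mem_subgroupOf] at hk ⊢
          simpa [tw, mul_assoc] using Subgroup.Normal.conj_mem inferInstance _ hk g
        have e1 : ((tw g a : N) : N ⧸ K.subgroupOf N) = (tw g b : N) := QuotientGroup.eq.2 hk'
        show ((tw g a * a⁻¹ : N) : N ⧸ K.subgroupOf N) = ((tw g b * b⁻¹ : N) : N ⧸ K.subgroupOf N)
        rw [QuotientGroup.mk_mul, QuotientGroup.mk_mul, QuotientGroup.mk_inv, QuotientGroup.mk_inv,
          e1, hab])
    have hcq : ∀ a b : N ⧸ K.subgroupOf N, a * b = b * a := by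
      intro a b
      induction a using QuotientGroup.induction_on with
      | H x =>
        induction b using QuotientGroup.induction_on with
        | H y =>
          rw [← QuotientGroup.mk_mul, ← QuotientGroup.mk_mul, QuotientGroup.eq,
            Subgroup.mem_subgroupOf]
          simpa [commutatorElement_def, mul_assoc] using
            hcomm _ (N.inv_mem y.2) _ (N.inv_mem x.2)
    have hinj : Function.Injective δ := by
      intro a b hab
      induction a using QuotientGroup.induction_on with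
      | H x =>
        induction b using QuotientGroup.induction_on with
        | H y =>
          change ((tw g x * x⁻¹ : N) : N ⧸ K.subgroupOf N) = ((tw g y * y⁻¹ : N) : _) at hab
          refine QuotientGroup.eq.2 (Subgroup.mem_subgroupOf.2 (hfpf g hg _
            (N.mul_mem (N.inv_mem x.2) y.2) ?_))
          have h1 : ((tw g (x⁻¹ * y) * (x⁻¹ * y)⁻¹ : N) : N ⧸ K.subgroupOf N) = 1 := by
            have e : tw g (x⁻¹ * y) = (tw g x)⁻¹ * tw g y := Subtype.ext (by simp [tw, mul_assoc])
            rw [QuotientGroup.mk_mul, QuotientGroup.mk_mul, QuotientGroup.mk_inv,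
              QuotientGroup.mk_inv] at hab
            rw [e, QuotientGroup.mk_mul, QuotientGroup.mk_inv, QuotientGroup.mk_mul,
              QuotientGroup.mk_inv, QuotientGroup.mk_mul, QuotientGroup.mk_inv, mul_inv_rev, inv_inv]
            have e2 : ∀ A B C D : N ⧸ K.subgroupOf N,
                A⁻¹ * B * (C⁻¹ * D) = (A * D⁻¹)⁻¹ * (B * C⁻¹) := fun A B C D =>
              calc A⁻¹ * B * (C⁻¹ * D) = (A⁻¹ * (B * C⁻¹)) * D := by group
                _ = D * (A⁻¹ * (B * C⁻¹)) := hcq _ _
                _ = _ := by group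
            rw [e2, hab, inv_mul_cancel]
          have h2 := (QuotientGroup.eq_one_iff _).1 h1
          rw [Subgroup.mem_subgroupOf] at h2
          simpa [tw, commutatorElement_def, mul_assoc] using h2
    refine MonoidHom.ext fun n => ?_
    obtain ⟨a, ha⟩ := (Finite.injective_iff_surjective.1 hinj) (n : N ⧸ K.subgroupOf N)
    induction a using QuotientGroup.induction_on with
    | H x =>
      have hk := QuotientGroup.eq.1 (show ((tw g x * x⁻¹ : N) : N ⧸ K.subgroupOf N) = n from ha)
      have h1 := l.2 _ (Subgroup.mem_subgroupOf.1 hk)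
      rw [map_mul, map_inv, map_mul, map_inv, hl, mul_inv_cancel, inv_one, one_mul] at h1
      rw [h1, MonoidHom.one_apply]
  -- each `g ∉ N` fixes at most one twist of `ψ`
  let tψ : Λ → IrrCharacter N := fun l => H12.InvConst.mulHom l.1 ψ
  have hone : ∀ g : G, g ∉ N → ∀ l l' : Λ, twist N g (tψ l : N → ℂ) = (tψ l : N → ℂ) →
      twist N g (tψ l' : N → ℂ) = (tψ l' : N → ℂ) → l = l' := by
    intro g hg l l' hl hl'
    have key : ∀ n : N, (((l.1 / l'.1) n / (l.1 / l'.1) (tw g n) : ℂˣ) : ℂ) * (ψ : N → ℂ) n =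
        (ψ : N → ℂ) n := by
      intro n
      have h1 : (l.1 (tw g n) : ℂ) * (ψ : N → ℂ) (tw g n) = (l.1 n : ℂ) * (ψ : N → ℂ) n :=
        congrFun hl n
      have h2 : (l'.1 (tw g n) : ℂ) * (ψ : N → ℂ) (tw g n) = (l'.1 n : ℂ) * (ψ : N → ℂ) n :=
        congrFun hl' n
      simp only [MonoidHom.div_apply, Units.val_div_eq_div_val]
      have a1 := (l.1 (tw g n)).ne_zero
      have a2 := (l'.1 (tw g n)).ne_zero
      have a3 := (l'.1 n).ne_zero
      have a4 := (l.1 n).ne_zero
      have h4 : ((l.1 n : ℂ) * (l'.1 (tw g n) : ℂ)) * (ψ : N → ℂ) n =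
          ((l'.1 n : ℂ) * (l.1 (tw g n) : ℂ)) * (ψ : N → ℂ) n := by
        linear_combination -(l'.1 (tw g n) : ℂ) * h1 + (l.1 (tw g n) : ℂ) * h2
      field_simp
      linear_combination h4
    obtain ⟨e, he⟩ := htwl g (l.1 / l'.1)
    have h3 : l.1 / l'.1 / e = 1 := hrigid _ (fun n hn => by
      rw [MonoidHom.div_apply, he, MonoidHom.div_apply, MonoidHom.div_apply, l.2 n hn, l'.2 n hn,
        l.2 _ (Subgroup.Normal.conj_mem inferInstance _ hn g),
        l'.2 _ (Subgroup.Normal.conj_mem inferInstance _ hn g), div_self'])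
      (fun n => by
        have := key n
        rw [← he] at this
        exact this)
    have h4 := hfree g hg ⟨l.1 / l'.1, fun n hn => by
      rw [MonoidHom.div_apply, l.2 n hn, l'.2 n hn, div_self']⟩ (fun n => by
      have := DFunLike.congr_fun h3 n
      rw [MonoidHom.div_apply, MonoidHom.one_apply, div_eq_one, he] at this
      exact this.symm)
    exact Subtype.ext (div_eq_one.1 h4)
  -- count
  obtain ⟨l, hl⟩ : ∃ l : Λ, ∀ g : G, g ∉ N → twist N g (tψ l : N → ℂ) ≠ (tψ l : N → ℂ) := by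
    by_contra hno
    simp only [not_exists, not_forall, not_not, exists_prop] at hno
    choose gg hgg using hno
    obtain ⟨n₀, hn₀, hn₀K⟩ := SetLike.exists_of_lt (lt_of_le_of_ne hKN hne)
    let F : Λ → G ⧸ N := fun l => (gg l : G ⧸ N)
    have hF : Function.Injective F := by
      intro l l' h
      refine hone (gg l) (hgg l).1 l l' (hgg l).2 ?_
      have hm : (gg l')⁻¹ * gg l ∈ inertia N (tψ l' : N → ℂ) :=
        le_inertia N (H12.irr_isClassFunction (tψ l')) (QuotientGroup.eq.1 h.symm)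
      have hm' : gg l' * ((gg l')⁻¹ * gg l) ∈ inertia N (tψ l' : N → ℂ) :=
        mul_mem ((mem_inertia N).2 (hgg l').2) hm
      rwa [mul_inv_cancel_left] at hm'
    have hFone : ∀ l, F l ≠ 1 := fun l h => (hgg l).1 ((QuotientGroup.eq_one_iff _).1 h)
    haveI : Fintype (G ⧸ N) := Fintype.ofFinite _
    haveI : Fintype Λ := Fintype.ofFinite _
    haveI : Fintype (N ⧸ K.subgroupOf N) := Fintype.ofFinite _
    have h1 : Fintype.card Λ ≤ Fintype.card (G ⧸ N) - 1 := by
      rw [← Finset.card_univ, ← Finset.card_univ, ← Finset.card_erase_of_mem (Finset.mem_univ (1 : G ⧸ N))]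
      exact Finset.card_le_card_of_injOn F (fun l _ => by simp [hFone l]) hF.injOn
    let E : G ⧸ N → N ⧸ K.subgroupOf N :=
      fun x => ((tw (Quotient.out x) ⟨n₀, hn₀⟩ : N) : N ⧸ K.subgroupOf N)
    have hE : Function.Injective E := by
      intro x y hxy
      have hk := Subgroup.mem_subgroupOf.1 (QuotientGroup.eq.1 hxy)
      set a := Quotient.out x
      set b := Quotient.out y
      have hk' : (a * n₀ * a⁻¹)⁻¹ * (b * n₀ * b⁻¹) ∈ K := hk
      by_contra hne'
      have hg : a⁻¹ * b ∉ N := fun h => hne' (by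
        rw [← QuotientGroup.out_eq' x, ← QuotientGroup.out_eq' y]
        exact QuotientGroup.eq.2 h)
      refine hn₀K (hfpf _ hg n₀ hn₀ ?_)
      have h1 := Subgroup.Normal.conj_mem (inferInstance : K.Normal) _ hk' a⁻¹
      have h2 := Subgroup.Normal.conj_mem (inferInstance : K.Normal) _ h1 n₀
      have e : ⁅a⁻¹ * b, n₀⁆ =
          n₀ * (a⁻¹ * ((a * n₀ * a⁻¹)⁻¹ * (b * n₀ * b⁻¹)) * a⁻¹⁻¹) * n₀⁻¹ := by
        simp [commutatorElement_def, mul_assoc]
      rwa [e]
    have hEone : ∀ x, E x ≠ 1 := by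
      intro x hx
      have hk := (QuotientGroup.eq_one_iff _).1 hx
      have h1 := Subgroup.Normal.conj_mem (inferInstance : K.Normal) _ (Subgroup.mem_subgroupOf.1 hk)
        (Quotient.out x)⁻¹
      exact hn₀K (by simpa [tw, mul_assoc] using h1)
    have h2 : Fintype.card (G ⧸ N) ≤ Fintype.card (N ⧸ K.subgroupOf N) - 1 := by
      rw [← Finset.card_univ, ← Finset.card_univ,
        ← Finset.card_erase_of_mem (Finset.mem_univ (1 : N ⧸ K.subgroupOf N))]
      exact Finset.card_le_card_of_injOn E (fun x _ => by simp [hEone x]) hE.injOn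
    have h3 : 0 < Fintype.card (G ⧸ N) := Fintype.card_pos
    rw [Nat.card_eq_fintype_card, Nat.card_eq_fintype_card] at hcard
    omega
  have hirr := isIrrCharacter_indFun_of_inertia N (tψ l).2 (fun g hg => by
    by_contra h
    exact hl g h ((mem_inertia N).1 hg))
  refine ⟨⟨_, hirr⟩, ?_⟩
  have h1 := H12.irr_apply_one (⟨_, hirr⟩ : IrrCharacter G)
  simp only at h1
  rw [indFun_apply_one, show (tψ l : N → ℂ) 1 = (ψ : N → ℂ) 1 by
    rw [H12.InvConst.mulHom_apply, map_one, Units.val_one, one_mul], H12.irr_apply_one] at h1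
  exact_mod_cast h1.symm

end H4.ThreeDeg
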