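import Cfsg.Agent.H4.ThreeDegrees.Coprime
import Cfsg.Agent.H4.ThreeDegrees.Frobenius
import Cfsg.Agent.H21.ResidualDegree
import Cfsg.Agent.H61.WielandtBound

/-!
Groups with three character degrees have derived length at most three.
-/

set_option autoImplicit false
set_option linter.style.haveILetI false
set_option linter.unusedSectionVars false

open Cfsg H13
open scoped commutatorElement

namespace H4.ThreeDeg

universe u

variable {G : Type u} [Group G] [Finite G]

theorem degree_eq_of_apply_one {H : Type u} [Group H] (χ : IrrCharacter G) (ψ : IrrCharacter H)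
    (h : (χ : G → ℂ) 1 = (ψ : H → ℂ) 1) : H12.degree (χ : G → ℂ) = H12.degree (ψ : H → ℂ) := by
  rw [H12.irr_apply_one, H12.irr_apply_one] at h
  exact_mod_cast h

theorem map_derived_eq {A B : Type u} [Group A] [Group B] {f : A →* B}
    (hf : Function.Surjective f) (n : ℕ) :
    (derivedSeries A n).map f = derivedSeries B n :=
  map_derivedSeries_eq hf n

/-- `p`-quotient nonabelian. -/
theorem case_residual {a b : ℕ} (ha : 1 < a) (hb : 1 < b) (hab : a ≠ b)
    (hcd : ∀ χ : IrrCharacter G, H12.degree (χ : G → ℂ) = 1 ∨ H12.degree (χ : G → ℂ) = a ∨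
      H12.degree (χ : G → ℂ) = b)
    {p : ℕ} [Fact p.Prime] (β : IrrCharacter (G ⧸ pResidual p G))
    (hβ : H12.degree (β : G ⧸ pResidual p G → ℂ) = a) :
    derivedSeries G 3 = ⊥ := by
  classical
  haveI := Fintype.ofFinite G
  have hp : p.Prime := Fact.out
  set N := pResidual p G with hNdef
  haveI := Fintype.ofFinite N
  haveI : Fintype (G ⧸ N) := Fintype.ofFinite _
  obtain ⟨k, hk⟩ := H5.exists_index_pResidual_eq (G := G) (p := p)
  rw [← hNdef] at hk
  have hapow : a ∣ p ^ k := by
    rw [← hk, Subgroup.index, ← hβ]; exact H12.irr_degree_dvd_card β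
  have hpa : p ∣ a := by
    obtain ⟨i, -, hi⟩ := (Nat.dvd_prime_pow hp).1 hapow
    rw [hi]
    refine dvd_pow_self p ?_
    rintro rfl
    rw [pow_zero] at hi
    omega
  have hpb : p ∣ b ∨ ∀ χ : IrrCharacter G, H12.degree (χ : G → ℂ) ≠ b := by
    by_contra hno
    simp only [not_or, not_forall, not_not] at hno
    obtain ⟨hpb, χ, hχ⟩ := hno
    obtain ⟨θ, hθ⟩ := H13.exists_constituent N (H12.isCharacter_irr χ) (H12.irr_ne_zero χ)
    obtain ⟨e, he, hed⟩ := ratio_of_constituent N χ θ hθ
    have he1 : e = 1 := by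
      refine Nat.eq_one_of_dvd_coprimes
        (((Nat.Prime.coprime_iff_not_dvd hp).2 hpb).pow_left k) (hk ▸ hed) ?_
      exact ⟨_, hχ ▸ he⟩
    rw [he1, one_mul] at he
    have hc := isCharacter_sub_irr (H12.IsCharacter.res (H12.isCharacter_irr χ) N) θ.2 hθ
    have hres : (fun n : N => (χ : G → ℂ) n) = (θ : N → ℂ) := by
      refine sub_eq_zero.1 (eq_zero_of_apply_one hc ?_)
      simp only [Pi.sub_apply, OneMemClass.coe_one, H12.irr_apply_one, he, sub_self]
    have hirr := gallagher_isIrr N (H12.isCharacter_irr χ) (hres ▸ θ.2) β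
    have hdeg : H12.degree ((⟨_, hirr⟩ : IrrCharacter G) : G → ℂ) = a * b := by
      have h1 := H12.irr_apply_one (⟨_, hirr⟩ : IrrCharacter G)
      simp only [Pi.mul_apply, inflateIrr_apply, QuotientGroup.mk_one, H12.irr_apply_one,
        hβ, hχ] at h1
      exact_mod_cast h1.symm
    have h1 : a * 1 < a * b := Nat.mul_lt_mul_of_pos_left hb (by omega)
    have h2 : 1 * b < a * b := Nat.mul_lt_mul_of_pos_right ha (by omega)
    rcases hcd ⟨_, hirr⟩ with h | h | h <;> rw [hdeg] at h <;> omega
  have hdeg : ∀ χ : IrrCharacter G, charDegree (χ : G → ℂ) ≠ 1 → p ∣ charDegree (χ : G → ℂ) := by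
    intro χ hχ
    rw [← H21.degree_eq_charDegree] at hχ ⊢
    rcases hcd χ with h | h | h
    · exact absurd h hχ
    · rw [h]; exact hpa
    · rcases hpb with h' | h'
      · rw [h]; exact h'
      · exact absurd h (h' χ)
  have hcop : (Nat.card N).Coprime p := H21.coprime_card_pResidual p hdeg
  by_cases hNab : ∀ x ∈ N, ∀ y ∈ N, x * y = y * x
  · -- an M-group: Taketa
    have hnil : Group.IsNilpotent (G ⧸ N) := (H5.isPGroup_quotient_pResidual (p := p)).isNilpotent
    have hM : ∀ χ : G → ℂ, IsIrrCharacter G χ →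
        ∃ (H : Subgroup G) (lam : H →* ℂˣ), χ = indFun H (fun h => (lam h : ℂ)) :=
      H21.monomial_of_abelian_by_nilpotent _ G N hNab hnil rfl
    suffices key : ∀ c d : ℕ, 1 < c → c < d → (∀ χ : IrrCharacter G,
        H12.degree (χ : G → ℂ) = 1 ∨ H12.degree (χ : G → ℂ) = c ∨ H12.degree (χ : G → ℂ) = d) →
        derivedSeries G 3 = ⊥ by
      rcases lt_or_gt_of_ne hab with h | h
      · exact key a b ha h hcd
      · exact key b a hb h (fun χ => (hcd χ).imp id Or.symm)
    intro c d hc hcd' hdeg3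
    have hlin : ∀ φ : IrrCharacter G, H12.degree (φ : G → ℂ) = 1 → ∀ g ∈ derivedSeries G 1,
        (φ : G → ℂ) g = (φ : G → ℂ) 1 := fun φ hφ g hg =>
      linear_kills φ hφ (derivedSeries_one G ▸ hg)
    have h2 : ∀ φ : IrrCharacter G, H12.degree (φ : G → ℂ) < d → ∀ g ∈ derivedSeries G 2,
        (φ : G → ℂ) g = (φ : G → ℂ) 1 := by
      intro φ hφ g hg
      rcases hdeg3 φ with h | h | h
      · exact hlin φ h g (derivedSeries_antitone G (show 1 ≤ 2 by norm_num) hg)
      · refine kill_step hM (derivedSeries G 1) c (fun φ' hφ' g' hg' => hlin φ' ?_ g' hg') φ h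
          (by rwa [derivedSeries_succ] at hg)
        rcases hdeg3 φ' with h' | h' | h' <;> omega
      · omega
    rw [Subgroup.eq_bot_iff_forall]
    intro g hg
    refine eq_one_of_kills fun χ => ?_
    by_cases hχ : H12.degree (χ : G → ℂ) < d
    · exact h2 χ hχ g (derivedSeries_antitone G (show 2 ≤ 3 by norm_num) hg)
    · refine kill_step hM (derivedSeries G 2) d h2 χ ?_ (by rwa [derivedSeries_succ] at hg)
      rcases hdeg3 χ with h | h | h <;> omega
  · -- the degrees of `N`
    have hsplit : ∀ θ : IrrCharacter N, H12.degree (θ : N → ℂ) = 1 ∨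
        ∃ e, e ∣ p ^ k ∧ b = e * H12.degree (θ : N → ℂ) := by
      intro θ
      obtain ⟨χ, e, he, hed⟩ := exists_over N θ
      have hθp : (H12.degree (θ : N → ℂ)).Coprime (p ^ k) :=
        (Nat.Coprime.coprime_dvd_left (H12.irr_degree_dvd_card θ) hcop).pow_right k
      rcases hcd χ with h | h | h
      · exact Or.inl (Nat.eq_one_of_mul_eq_one_left (he.symm.trans h))
      · exact Or.inl (Nat.eq_one_of_dvd_coprimes hθp dvd_rfl
          ((Dvd.intro_left e (he.symm.trans h)).trans hapow))
      · exact Or.inr ⟨e, hk ▸ hed, h.symm.trans he⟩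
    obtain ⟨θ₀, hθ₀⟩ : ∃ θ : IrrCharacter N, H12.degree (θ : N → ℂ) ≠ 1 := by
      by_contra hno
      simp only [not_exists, not_not] at hno
      apply hNab
      intro x hx y hy
      exact congrArg Subtype.val (commutative_of_all_linear
        (fun θ : IrrCharacter N => by rw [H12.irr_apply_one, hno θ, Nat.cast_one])
        (⟨x, hx⟩ : N) ⟨y, hy⟩)
    have hpN : ∀ θ : IrrCharacter N, (H12.degree (θ : N → ℂ)).Coprime (p ^ k) := fun θ =>
      (Nat.Coprime.coprime_dvd_left (H12.irr_degree_dvd_card θ) hcop).pow_right k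
    have hN2 : derivedSeries N 2 = ⊥ := derived_two (m := H12.degree (θ₀ : N → ℂ)) fun θ => by
      rcases hsplit θ with h | ⟨e, hed, he⟩
      · exact Or.inl h
      obtain ⟨e₀, hed₀, he₀⟩ := (hsplit θ₀).resolve_left hθ₀
      refine Or.inr (Nat.dvd_antisymm ?_ ?_)
      · exact (Nat.Coprime.coprime_dvd_right hed₀ (hpN θ)).dvd_of_dvd_mul_left
          (he₀ ▸ Dvd.intro_left e he.symm)
      · exact (Nat.Coprime.coprime_dvd_right hed (hpN θ₀)).dvd_of_dvd_mul_left
          (he ▸ Dvd.intro_left e₀ he₀.symm)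
    have hbnp : ¬ b ∣ p ^ k := by
      intro hbp
      obtain ⟨e₀, -, he₀⟩ := (hsplit θ₀).resolve_left hθ₀
      exact hθ₀ (Nat.eq_one_of_dvd_coprimes (hpN θ₀) dvd_rfl
        ((Dvd.intro_left e₀ he₀.symm).trans hbp))
    set W : Subgroup G := ⁅N, N⁆ with hW
    haveI : W.Normal := Subgroup.commutator_normal N N
    set A := N.map (QuotientGroup.mk' W) with hA
    haveI : A.Normal := Subgroup.Normal.map inferInstance _ (QuotientGroup.mk'_surjective W)
    have hAidx : A.index ∣ p ^ k :=
      hk ▸ Subgroup.index_map_dvd _ (QuotientGroup.mk'_surjective W)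
    have hAab : ∀ x ∈ A, ∀ y ∈ A, x * y = y * x := by
      rintro _ ⟨x, hx, rfl⟩ _ ⟨y, hy, rfl⟩
      rw [← commutatorElement_eq_one_iff_mul_comm, ← map_commutatorElement]
      exact (QuotientGroup.eq_one_iff _).2 (Subgroup.commutator_mem_commutator hx hy)
    have hAcop : (Nat.card A).Coprime A.index :=
      ((Nat.Coprime.coprime_dvd_left (Subgroup.card_map_dvd _ _) hcop).pow_right k).coprime_dvd_right
        hAidx
    have hQ2 : derivedSeries (G ⧸ W) 2 = ⊥ := derived_two (m := a) fun ψ => by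
      have h1 := H14.degree_dvd_index_of_abelian_coprime A hAab hAcop ψ
      have h2 : H12.degree (inflateIrr W ψ : G → ℂ) = H12.degree (ψ : G ⧸ W → ℂ) :=
        degree_eq_of_apply_one _ _ (by rw [inflateIrr_apply, QuotientGroup.mk_one])
      rcases hcd (inflateIrr W ψ) with h | h | h
      · exact Or.inl (h2 ▸ h)
      · exact Or.inr (h2 ▸ h)
      · exact absurd ((h2 ▸ h : H12.degree (ψ : G ⧸ W → ℂ) = b) ▸ h1.trans hAidx) hbnp
    have h2 : derivedSeries G 2 ≤ W := by
      rw [← map_derived_eq (QuotientGroup.mk'_surjective W), Subgroup.map_eq_bot_iff,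
        QuotientGroup.ker_mk'] at hQ2
      exact hQ2
    have hW1 : W = (derivedSeries N 1).map N.subtype := by
      rw [derivedSeries_succ, derivedSeries_zero, Subgroup.map_commutator, ← MonoidHom.range_eq_map,
        Subgroup.range_subtype]
    rw [derivedSeries_succ, ← le_bot_iff]
    refine (Subgroup.commutator_mono h2 h2).trans ?_
    rw [hW1, ← Subgroup.map_commutator, ← derivedSeries_succ, hN2, Subgroup.map_bot]

/-- The quotient by `K` is Frobenius with kernel `N / K`, and `N.index = a`. -/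
theorem case_frobenius {a b : ℕ} (ha : 1 < a) (hb : 1 < b)
    (hcd : ∀ χ : IrrCharacter G, H12.degree (χ : G → ℂ) = 1 ∨ H12.degree (χ : G → ℂ) = a ∨
      H12.degree (χ : G → ℂ) = b)
    (hres : ∀ p : ℕ, p.Prime → commutator G ≤ pResidual p G)
    (N K : Subgroup G) [N.Normal] [K.Normal] (hKN : K ≤ N)
    (hGN : commutator G ≤ N) (hGK : ¬ commutator G ≤ K)
    {q : ℕ} (hq : q.Prime) (hpow : ∀ n ∈ N, n ^ q ∈ K)
    (hcomm : ∀ x ∈ N, ∀ y ∈ N, ⁅x, y⁆ ∈ K)
    (hfpf : ∀ g : G, g ∉ N → ∀ n ∈ N, ⁅g, n⁆ ∈ K → n ∈ K)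
    (hqa : ¬ q ∣ a) (hNa : N.index = a) :
    derivedSeries G 3 = ⊥ := by
  classical
  haveI := Fintype.ofFinite G
  let S : (a.gcd b).primeFactors → Subgroup G := fun r => pResidual (r : ℕ) G
  haveI : ∀ r, (S r).Normal := fun r => inferInstanceAs (pResidual (r : ℕ) G).Normal
  set R : Subgroup G := ⨅ r, S r with hR
  haveI hRn : R.Normal := Subgroup.normal_iInf_normal (fun r => inferInstance)
  have hGR : commutator G ≤ R :=
    le_iInf fun r => hres _ (Nat.prime_of_mem_primeFactors r.2)
  have hrR : ∀ r ∈ (a.gcd b).primeFactors, (Nat.card R).Coprime r := by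
    intro r hr
    haveI := Fact.mk (Nat.prime_of_mem_primeFactors hr)
    refine Nat.Coprime.coprime_dvd_left (Subgroup.card_dvd_of_le (iInf_le S ⟨r, hr⟩))
      (H21.coprime_card_pResidual r fun χ hχ => ?_)
    rw [← H21.degree_eq_charDegree] at hχ ⊢
    rcases hcd χ with h | h | h
    · exact absurd h hχ
    · rw [h]; exact (Nat.dvd_of_mem_primeFactors hr).trans (Nat.gcd_dvd_left a b)
    · rw [h]; exact (Nat.dvd_of_mem_primeFactors hr).trans (Nat.gcd_dvd_right a b)
  have hcop : (Nat.card R).Coprime R.index := by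
    refine Nat.Coprime.coprime_dvd_right (H61.index_iInf_dvd S) ?_
    refine Nat.Coprime.prod_right fun r _ => ?_
    haveI := Fact.mk (Nat.prime_of_mem_primeFactors r.2)
    obtain ⟨k, hk⟩ := H5.exists_index_pResidual_eq (G := G) (p := (r : ℕ))
    rw [hk]
    exact (hrR r r.2).pow_right k
  set M : Subgroup G := N ⊓ R with hM
  set idx := R.index with hidx
  set f := M.relIndex R with hf
  have hMidx : M.index = f * idx := (Subgroup.relIndex_mul_index inf_le_right).symm
  have hMfin : 0 < M.index := Nat.pos_of_ne_zero Subgroup.index_ne_zero_of_finite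
  have hfR : f ∣ Nat.card R := Subgroup.index_dvd_card _
  have hfa : f ∣ a := by
    rw [hf, hM, Subgroup.inf_relIndex_right, ← hNa]
    exact Subgroup.relIndex_dvd_index_of_normal N R
  have hfb : f.Coprime b := by
    refine Nat.coprime_of_dvd fun r hr hrf hrb => ?_
    have hra : r ∣ a := hrf.trans hfa
    have := hrR r (Nat.mem_primeFactors.2 ⟨hr, Nat.dvd_gcd hra hrb,
      (Nat.gcd_pos_of_pos_left b (by omega)).ne'⟩)
    exact hr.coprime_iff_not_dvd.1 this.symm (hrf.trans hfR)
  have haM : a ∣ f * idx := hNa ▸ hMidx ▸ Subgroup.index_dvd_of_le inf_le_left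
  have hψidx : ∀ ψ : IrrCharacter M, (H12.degree (ψ : M → ℂ)).Coprime idx := fun ψ =>
    (hcop.coprime_dvd_left (Subgroup.card_dvd_of_le inf_le_right)).coprime_dvd_left
      (H12.irr_degree_dvd_card ψ)
  -- the degrees of `M`
  have key : ∀ ψ : IrrCharacter M, H12.degree (ψ : M → ℂ) = 1 ∨
      ∃ e, e ∣ idx ∧ b = e * H12.degree (ψ : M → ℂ) := by
    intro ψ
    obtain ⟨χ, e, he, hed⟩ := exists_over M ψ
    rw [hMidx] at hed
    rcases hcd χ with h | h | h
    · exact Or.inl (Nat.eq_one_of_mul_eq_one_left (he.symm.trans h))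
    · have hqψ : ¬ q ∣ H12.degree (ψ : M → ℂ) := fun hd =>
        hqa (hd.trans (Dvd.intro_left e (he.symm.trans h)))
      -- twist inside `R`
      let ι := Subgroup.subgroupOfEquivOfLe (show M ≤ R from inf_le_right)
      let ψ' : IrrCharacter (M.subgroupOf R) :=
        ⟨(ψ : M → ℂ) ∘ ι, isIrrCharacter_comp_equiv ι ψ.2⟩
      have hψ' : H12.degree (ψ' : M.subgroupOf R → ℂ) = H12.degree (ψ : M → ℂ) :=
        degree_eq_of_apply_one _ _ (show (ψ : M → ℂ) (ι 1) = _ by rw [map_one])
      have hKM : K.subgroupOf R ≤ M.subgroupOf R := fun x hx => by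
        rw [Subgroup.mem_subgroupOf] at hx ⊢
        exact ⟨hKN hx, x.2⟩
      have hne : K.subgroupOf R ≠ M.subgroupOf R := fun e => hGK fun x hx => by
        have h1 : (⟨x, hGR hx⟩ : R) ∈ M.subgroupOf R :=
          Subgroup.mem_subgroupOf.2 ⟨hGN hx, hGR hx⟩
        rw [← e, Subgroup.mem_subgroupOf] at h1
        exact h1
      obtain ⟨θ, hθ⟩ := exists_free_degree (G := R) (M.subgroupOf R) (K.subgroupOf R) hKM hne hq
        (fun n hn => Subgroup.mem_subgroupOf.2 (hpow _ (Subgroup.mem_subgroupOf.1 hn).1))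
        (fun x hx y hy => Subgroup.mem_subgroupOf.2
          (hcomm _ (Subgroup.mem_subgroupOf.1 hx).1 _ (Subgroup.mem_subgroupOf.1 hy).1))
        (fun g hg n hn hgn => Subgroup.mem_subgroupOf.2 (hfpf g
          (fun hgN => hg (Subgroup.mem_subgroupOf.2 ⟨hgN, g.2⟩)) n
          (Subgroup.mem_subgroupOf.1 hn).1 (Subgroup.mem_subgroupOf.1 hgn)))
        ψ' (hψ' ▸ hqψ)
      rw [hψ', show (M.subgroupOf R).index = f from rfl] at hθ
      obtain ⟨χ', e', he', -⟩ := exists_over R θ
      rw [hθ] at he'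
      have hf1 : f = 1 → H12.degree (ψ : M → ℂ) = 1 := fun h1 =>
        Nat.eq_one_of_dvd_coprimes (hψidx ψ) dvd_rfl
          (((Dvd.intro_left e (he.symm.trans h)).trans haM).trans (by rw [h1, one_mul]))
      refine Or.inl ?_
      rcases hcd χ' with h' | h' | h' <;> rw [he'] at h'
      · exact Nat.eq_one_of_mul_eq_one_left (Nat.eq_one_of_mul_eq_one_left h')
      · have hf0 : 0 < f := Nat.pos_of_ne_zero fun h0 => by rw [hMidx, h0, zero_mul] at hMfin; omega
        have h1 : f * H12.degree (ψ : M → ℂ) ∣ f * idx := (Dvd.intro_left e' h').trans haM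
        exact Nat.eq_one_of_dvd_coprimes (hψidx ψ) dvd_rfl (Nat.dvd_of_mul_dvd_mul_left hf0 h1)
      · exact hf1 (Nat.eq_one_of_dvd_coprimes hfb dvd_rfl
          ((Dvd.intro _ rfl).trans (Dvd.intro_left e' h')))
    · refine Or.inr ⟨e, ?_, h.symm.trans he⟩
      exact (Nat.Coprime.coprime_dvd_left (Dvd.intro _ (he.symm.trans h)) hfb.symm).dvd_of_dvd_mul_left
        hed
  have hM2 : derivedSeries M 2 = ⊥ := by
    by_cases hall : ∀ ψ : IrrCharacter M, H12.degree (ψ : M → ℂ) = 1
    · exact derived_two (m := 1) fun ψ => Or.inl (hall ψ)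
    simp only [not_forall] at hall
    obtain ⟨ψ₀, hψ₀⟩ := hall
    obtain ⟨e₀, hed₀, he₀⟩ := (key ψ₀).resolve_left hψ₀
    refine derived_two (m := H12.degree (ψ₀ : M → ℂ)) fun ψ => ?_
    rcases key ψ with h | ⟨e, hed, he⟩
    · exact Or.inl h
    refine Or.inr (Nat.dvd_antisymm ?_ ?_)
    · exact (Nat.Coprime.coprime_dvd_right hed₀ (hψidx ψ)).dvd_of_dvd_mul_left
        (he₀ ▸ Dvd.intro_left e he.symm)
    · exact (Nat.Coprime.coprime_dvd_right hed (hψidx ψ₀)).dvd_of_dvd_mul_left
        (he ▸ Dvd.intro_left e₀ he₀.symm)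
  exact derived_eq_bot_of_sub M 1 (by rw [derivedSeries_one]; exact le_inf hGN hGR) 2 hM2

/-- At most three degrees: the third derived subgroup is trivial. -/
theorem derived_three : ∀ (n : ℕ) (G : Type u) [Group G] [Finite G], Nat.card G = n → ∀ a b : ℕ,
    (∀ χ : IrrCharacter G, H12.degree (χ : G → ℂ) = 1 ∨ H12.degree (χ : G → ℂ) = a ∨
      H12.degree (χ : G → ℂ) = b) → derivedSeries G 3 = ⊥ := by
  intro n
  induction n using Nat.strong_induction_on with
  | _ n ih => ?_
  intro G _ _ hn a b hcd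
  classical
  have htwo : ∀ m : ℕ,
      (∀ χ : IrrCharacter G, H12.degree (χ : G → ℂ) = 1 ∨ H12.degree (χ : G → ℂ) = m) →
      derivedSeries G 3 = ⊥ := by
    intro m hm
    rw [derivedSeries_succ, derived_two hm, Subgroup.commutator_bot_left]
  by_cases hexa : ∀ χ : IrrCharacter G, H12.degree (χ : G → ℂ) ≠ a
  · exact htwo b fun χ => (hcd χ).imp id fun h => h.resolve_left (hexa χ)
  by_cases hexb : ∀ χ : IrrCharacter G, H12.degree (χ : G → ℂ) ≠ b
  · exact htwo a fun χ => (hcd χ).imp id fun h => h.resolve_right (hexb χ)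
  simp only [ne_eq, not_forall, not_not] at hexa hexb
  by_cases hab : a = b
  · exact htwo a fun χ => by rcases hcd χ with h | h | h <;> simp [h, hab]
  by_cases ha1 : a = 1
  · exact htwo b fun χ => by rcases hcd χ with h | h | h <;> simp [h, ha1]
  by_cases hb1 : b = 1
  · exact htwo a fun χ => by rcases hcd χ with h | h | h <;> simp [h, hb1]
  have ha : 1 < a := by
    obtain ⟨χ, hχ⟩ := hexa
    have := H12.irr_degree_pos χ
    omega
  have hb : 1 < b := by
    obtain ⟨χ, hχ⟩ := hexb
    have := H12.irr_degree_pos χ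
    omega
  have hinf : ∀ (X : Subgroup G) [X.Normal] (ψ : IrrCharacter (G ⧸ X)),
      H12.degree (inflateIrr X ψ : G → ℂ) = H12.degree (ψ : G ⧸ X → ℂ) := fun X _ ψ =>
    degree_eq_of_apply_one _ _ (by rw [inflateIrr_apply, QuotientGroup.mk_one])
  by_cases hres : ∀ p : ℕ, p.Prime → commutator G ≤ pResidual p G
  swap
  · simp only [not_forall, exists_prop] at hres
    obtain ⟨p, hp, hnle⟩ := hres
    haveI := Fact.mk hp
    obtain ⟨β, hβ⟩ : ∃ β : IrrCharacter (G ⧸ pResidual p G),
        H12.degree (β : G ⧸ pResidual p G → ℂ) ≠ 1 := by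
      by_contra hno
      simp only [not_exists, not_not] at hno
      apply hnle
      rw [commutator_def, Subgroup.commutator_le]
      intro x _ y _
      rw [← QuotientGroup.eq_one_iff, ← QuotientGroup.mk'_apply, map_commutatorElement,
        commutatorElement_eq_one_iff_mul_comm]
      exact commutative_of_all_linear
        (fun θ => by rw [H12.irr_apply_one, hno θ, Nat.cast_one]) _ _
    rcases hcd (inflateIrr _ β) with h | h | h <;> rw [hinf] at h
    · exact absurd h hβ
    · exact case_residual ha hb hab hcd β h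
    · exact case_residual hb ha (Ne.symm hab) (fun χ => (hcd χ).imp id Or.symm) β h
  by_cases hperf : derivedSeries G 2 = derivedSeries G 1
  · -- the derived subgroup is perfect
    have hstab : ∀ m : ℕ, derivedSeries G (1 + m) = derivedSeries G 1 := by
      intro m
      induction m with
      | zero => rfl
      | succ m ihm =>
        rw [← Nat.add_assoc, derivedSeries_succ, ihm, ← derivedSeries_succ]
        exact hperf
    suffices h1 : derivedSeries G 1 = ⊥ by rw [show (3 : ℕ) = 1 + 2 from rfl, hstab]; exact h1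
    by_contra h1
    haveI := Fintype.ofFinite G
    have hfaith : ∀ χ : IrrCharacter G, H12.degree (χ : G → ℂ) ≠ 1 →
        ∀ g : G, (χ : G → ℂ) g = (χ : G → ℂ) 1 → g = 1 := by
      intro χ hχ g hg
      by_contra hg1
      obtain ⟨m, ρ, hρ, hρχ⟩ := χ.2
      have hker : ∀ x : G, x ∈ MonoidHom.ker ρ ↔ (χ : G → ℂ) x = (χ : G → ℂ) 1 := by
        intro x
        rw [MonoidHom.mem_ker, ← hρχ, Representation.char_one, H12.character_eq_finrank_iff]
        rfl
      set X : Subgroup G := MonoidHom.ker ρ with hX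
      have hXne : X ≠ ⊥ := fun h => hg1 (by
        have h2 : g ∈ X := (hker g).2 hg
        rwa [h, Subgroup.mem_bot] at h2)
      have hlt : Nat.card (G ⧸ X) < n := by
        rw [← hn, Subgroup.card_eq_card_quotient_mul_card_subgroup X]
        exact lt_mul_of_one_lt_right Nat.card_pos (X.one_lt_card_iff_ne_bot.2 hXne)
      have h3 := ih _ hlt (G ⧸ X) rfl a b (fun ψ => by rw [← hinf X ψ]; exact hcd _)
      rw [← map_derived_eq (QuotientGroup.mk'_surjective X), Subgroup.map_eq_bot_iff,
        QuotientGroup.ker_mk', show (3 : ℕ) = 1 + 2 from rfl, hstab, derivedSeries_one] at h3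
      exact hχ (degree_one_of_kills χ fun x hx => (hker x).1 (h3 hx))
    by_cases hco : a.Coprime b
    · rcases lt_or_gt_of_ne hab with h | h
      · exact coprime_faithful h hco ha hcd hfaith hexa hexb
      · exact coprime_faithful h hco.symm hb (fun χ => (hcd χ).imp id Or.symm) hfaith hexb hexa
    obtain ⟨r, hr, hrd⟩ := Nat.exists_prime_and_dvd hco
    haveI := Fact.mk hr
    have hcop : (Nat.card (pResidual r G)).Coprime r := H21.coprime_card_pResidual r fun χ hχ => by
      rw [← H21.degree_eq_charDegree] at hχ ⊢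
      rcases hcd χ with h | h | h
      · exact absurd h hχ
      · rw [h]; exact hrd.trans (Nat.gcd_dvd_left a b)
      · rw [h]; exact hrd.trans (Nat.gcd_dvd_right a b)
    have hlt : Nat.card (pResidual r G) < n := by
      obtain ⟨χ, hχ⟩ := hexa
      have hrG : r ∣ Nat.card G :=
        (hrd.trans (Nat.gcd_dvd_left a b)).trans (hχ ▸ H12.irr_degree_dvd_card χ)
      rw [← hn]
      refine lt_of_le_of_ne (Subgroup.card_le_card_group _) fun h => ?_
      exact hr.coprime_iff_not_dvd.1 hcop.symm (h ▸ hrG)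
    obtain ⟨k, hk⟩ := H5.exists_index_pResidual_eq (G := G) (p := r)
    have hθ : ∀ θ : IrrCharacter (pResidual r G), H12.degree (θ : pResidual r G → ℂ) = 1 ∨
        H12.degree (θ : pResidual r G → ℂ) = ordCompl[r] a ∨
        H12.degree (θ : pResidual r G → ℂ) = ordCompl[r] b := by
      intro θ
      obtain ⟨χ, e, he, hed⟩ := exists_over _ θ
      rw [hk] at hed
      have hθr : ¬ r ∣ H12.degree (θ : pResidual r G → ℂ) := fun hd =>
        hr.coprime_iff_not_dvd.1 hcop.symm (hd.trans (H12.irr_degree_dvd_card θ))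
      obtain ⟨i, -, hi⟩ := (Nat.dvd_prime_pow hr).1 hed
      have hcompl : ∀ c, c = r ^ i * H12.degree (θ : pResidual r G → ℂ) →
          H12.degree (θ : pResidual r G → ℂ) = ordCompl[r] c := by
        rintro _ rfl
        exact (Nat.ordCompl_pow_mul_of_not_dvd i hr hθr).symm
      rw [hi] at he
      rcases hcd χ with h | h | h <;> rw [he] at h
      · exact Or.inl (Nat.eq_one_of_mul_eq_one_left h)
      · exact Or.inr (Or.inl (hcompl a h.symm))
      · exact Or.inr (Or.inr (hcompl b h.symm))
    have h4 := derived_eq_bot_of_sub (pResidual r G) 1 (by rw [derivedSeries_one]; exact hres r hr)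
      3 (ih _ hlt _ rfl _ _ hθ)
    rw [hstab] at h4
    exact h1 h4
  · -- a minimal nonabelian solvable quotient
    obtain ⟨K, ⟨hKn, hK2, hK1⟩, hKmax⟩ := Set.Finite.exists_maximal
      (s := {K : Subgroup G | K.Normal ∧ derivedSeries G 2 ≤ K ∧ ¬ derivedSeries G 1 ≤ K})
      (Set.toFinite _)
      ⟨derivedSeries G 2, inferInstance, le_rfl,
        fun h => hperf (le_antisymm (derivedSeries_antitone G (by norm_num)) h)⟩
    haveI := hKn
    have hmap : (commutator G).map (QuotientGroup.mk' K) = commutator (G ⧸ K) := by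
      rw [← derivedSeries_one, ← derivedSeries_one]
      exact map_derived_eq (QuotientGroup.mk'_surjective K) 1
    have hD : commutator (G ⧸ K) ≠ ⊥ := by
      rw [← hmap, ne_eq, Subgroup.map_eq_bot_iff, QuotientGroup.ker_mk', ← derivedSeries_one]
      exact hK1
    have hDab : ∀ x ∈ commutator (G ⧸ K), ∀ y ∈ commutator (G ⧸ K), x * y = y * x := by
      rw [← hmap]
      rintro _ ⟨x, hx, rfl⟩ _ ⟨y, hy, rfl⟩
      rw [← commutatorElement_eq_one_iff_mul_comm, ← map_commutatorElement]
      refine (QuotientGroup.eq_one_iff _).2 (hK2 ?_)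
      rw [derivedSeries_succ, derivedSeries_one]
      exact Subgroup.commutator_mem_commutator hx hy
    have huniq : ∀ X : Subgroup (G ⧸ K), X.Normal → X ≠ ⊥ → commutator (G ⧸ K) ≤ X := by
      intro X hXn hX
      rw [← hmap, Subgroup.map_le_iff_le_comap, ← derivedSeries_one]
      by_contra hle
      have hKX : K ≤ X.comap (QuotientGroup.mk' K) := fun x hx => by
        rw [Subgroup.mem_comap, QuotientGroup.mk'_apply, (QuotientGroup.eq_one_iff x).2 hx]
        exact one_mem _
      have heq := le_antisymm (hKmax (y := X.comap (QuotientGroup.mk' K))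
        ⟨hXn.comap _, hK2.trans hKX, hle⟩ hKX) hKX
      apply hX
      rw [← Subgroup.map_comap_eq_self_of_surjective (QuotientGroup.mk'_surjective K) X, heq,
        QuotientGroup.map_mk'_self]
    obtain ⟨q, hq, hpow, hfpf, hqidx⟩ := min_nonabelian hD huniq hDab fun p hp => by
      rw [← hmap]
      exact (Subgroup.map_mono (hres p hp)).trans (H5.pResidual_map_le _)
    set N : Subgroup G := (commutator (G ⧸ K)).comap (QuotientGroup.mk' K) with hN
    have hKN : K ≤ N := fun x hx => by
      rw [hN, Subgroup.mem_comap, QuotientGroup.mk'_apply, (QuotientGroup.eq_one_iff x).2 hx]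
      exact one_mem _
    have hGN : commutator G ≤ N := Subgroup.map_le_iff_le_comap.1 hmap.le
    have hNidx : N.index = (commutator (G ⧸ K)).index :=
      Subgroup.index_comap_of_surjective _ (QuotientGroup.mk'_surjective K)
    have hpow' : ∀ x ∈ N, x ^ q ∈ K := fun x hx =>
      (QuotientGroup.eq_one_iff _).1 (by rw [QuotientGroup.mk_pow]; exact hpow _ hx)
    have hcomm : ∀ x ∈ N, ∀ y ∈ N, ⁅x, y⁆ ∈ K := fun x hx y hy => by
      rw [← QuotientGroup.eq_one_iff, ← QuotientGroup.mk'_apply, map_commutatorElement,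
        commutatorElement_eq_one_iff_mul_comm]
      exact hDab _ hx _ hy
    have hfpf' : ∀ g : G, g ∉ N → ∀ x ∈ N, ⁅g, x⁆ ∈ K → x ∈ K := by
      intro g hg x hx hgx
      refine (QuotientGroup.eq_one_iff _).1 (hfpf _ hg _ hx ?_)
      rw [← commutatorElement_eq_one_iff_mul_comm]
      show ⁅QuotientGroup.mk' K g, QuotientGroup.mk' K x⁆ = 1
      rw [← map_commutatorElement]
      exact (QuotientGroup.eq_one_iff _).2 hgx
    have hne : K ≠ N := fun e => hK1 (by rw [derivedSeries_one, e]; exact hGN)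
    have hqidx' : ¬ q ∣ N.index := hNidx ▸ hqidx
    obtain ⟨θ, hθ⟩ := exists_free_degree N K hKN hne hq hpow' hcomm hfpf' (H12.oneIrr N)
      (by
        have h1 := H12.irr_apply_one (H12.oneIrr N)
        rw [H12.oneIrr_apply] at h1
        have h2 : H12.degree (H12.oneIrr N : N → ℂ) = 1 := by exact_mod_cast h1.symm
        rw [h2]
        exact hq.not_dvd_one)
    have hθ' : H12.degree (θ : G → ℂ) = N.index := by
      have h1 := H12.irr_apply_one (H12.oneIrr N)
      rw [H12.oneIrr_apply] at h1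
      have h2 : H12.degree (H12.oneIrr N : N → ℂ) = 1 := by exact_mod_cast h1.symm
      rw [hθ, h2, mul_one]
    have hidx1 : N.index ≠ 1 := by
      rw [hNidx, ne_eq, Subgroup.index_eq_one]
      intro htop
      apply hD
      rw [commutator_def, Subgroup.commutator_eq_bot_iff_le_centralizer]
      intro x _
      rw [Subgroup.mem_centralizer_iff]
      intro y _
      exact hDab y (htop ▸ Subgroup.mem_top y) x (htop ▸ Subgroup.mem_top x)
    have hGK : ¬ commutator G ≤ K := derivedSeries_one G ▸ hK1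
    rcases hcd θ with h | h | h <;> rw [hθ'] at h
    · exact absurd h hidx1
    · exact case_frobenius ha hb hcd hres N K hKN hGN hGK hq hpow' hcomm hfpf' (h ▸ hqidx') h
    · exact case_frobenius hb ha (fun χ => (hcd χ).imp id Or.symm) hres N K hKN hGN hGK hq hpow'
        hcomm hfpf' (h ▸ hqidx') h

end H4.ThreeDeg
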